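import Groth.Prelude.Def_EtBase
import Groth.Agent.S1376
import Groth.Agent.Lib.FinRefine4.Affine

/-!
# Etale covers of qcqs schemes are refined by finite surjective morphisms followed by open covers
-/

universe u

open CategoryTheory AlgebraicGeometry Limits

set_option backward.isDefEq.respectTransparency.types false

namespace Groth.Agent.Gabber24

variable {X : Scheme.{u}} {ι : Type u} (U : ι → X.Etale)

/-- Near `y` the morphism `π` factors through a member of the family. -/
def Factors {Y : Scheme.{u}} (π : Y ⟶ X) (y : Y) : Prop :=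
  ∃ (W : Y.Opens) (i : ι) (r : (W : Scheme.{u}) ⟶ (U i).left), y ∈ W ∧ r ≫ (U i).hom = W.ι ≫ π

theorem Factors.of_openImmersion {Y D : Scheme.{u}} (π : Y ⟶ X) (e : D ⟶ Y) [IsOpenImmersion e]
    (i : ι) (r : D ⟶ (U i).left) (hr : r ≫ (U i).hom = e ≫ π) (d : D) : Factors U π (e d) := by
  refine ⟨e.opensRange, i, IsOpenImmersion.lift e e.opensRange.ι (by rw [Scheme.Opens.range_ι]; rfl) ≫ r,
    ⟨d, rfl⟩, ?_⟩
  rw [Category.assoc, hr, ← Category.assoc, IsOpenImmersion.lift_fac]

theorem Factors.comp {Y Z : Scheme.{u}} (π : Y ⟶ X) (g : Z ⟶ Y) (z : Z) (h : Factors U π (g z)) :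
    Factors U (g ≫ π) z := by
  obtain ⟨W, i, r, hW, hr⟩ := h
  refine ⟨g ⁻¹ᵁ W, i, (g ∣_ W) ≫ r, hW, ?_⟩
  rw [Category.assoc, hr, ← Category.assoc, morphismRestrict_ι, Category.assoc]

theorem exists_finite_refine_affine [CompactSpace X] [QuasiSeparatedSpace X]
    (hcov : ∀ x : X, ∃ (i : ι) (v : (U i).left), (U i).hom v = x) (A : X.Opens) (hA : IsAffineOpen A) :
    ∃ (X' : Scheme.{u}) (π : X' ⟶ X), IsFinite π ∧ Surjective π ∧
      ∀ x' : X', π x' ∈ A → Factors U π x' := by
  classical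
  let p : (∐ fun i => (U i).left) ⟶ X := Sigma.desc fun i => (U i).hom
  have hp : AlgebraicGeometry.Etale p := IsZariskiLocalAtSource.sigmaDesc fun i => (U i).prop
  have hps : Surjective p := ⟨fun x => by
    obtain ⟨i, v, hv⟩ := hcov x
    refine ⟨Sigma.ι (fun i => (U i).left) i v, ?_⟩
    rw [← hv, ← Scheme.Hom.comp_apply, Sigma.ι_desc]⟩
  let g := pullback.snd p hA.fromSpec
  let O : ι → (pullback p hA.fromSpec).Opens := fun i =>
    pullback.fst p hA.fromSpec ⁻¹ᵁ (Sigma.ι (fun i => (U i).left) i).opensRange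
  have hO : ∀ x, ∃ i, x ∈ O i := fun x => by
    obtain ⟨i, y, hy⟩ := (sigmaOpenCover fun i => (U i).left).exists_eq (pullback.fst p hA.fromSpec x)
    exact ⟨i, y, hy⟩
  obtain ⟨C, πa, hfin, hsurj, m, D, j, r, hj, hjcov, hr⟩ := FinRefine4.exists_refine g O hO
  let v : Spec C ⟶ (A : Scheme.{u}) := πa ≫ hA.isoSpec.inv
  haveI : IsFinite v := inferInstance
  haveI : Surjective v := inferInstance
  haveI : QuasiCompact A.ι := by
    have : IsCompact (A : Set X) := hA.isCompact
    exact (quasiCompact_iff _).2 fun W hW hWc => by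
      refine A.ι.isEmbedding.isInducing.isCompact_iff.2 ?_
      rw [Set.image_preimage_eq_inter_range, A.range_ι]
      exact QuasiSeparatedSpace.inter_isCompact _ _ hW hWc A.2 this
  obtain ⟨V', π, e, hπs, hπf, hpb⟩ := Groth.Agent.S1376.result A hA.isCompact v
  haveI : IsOpenImmersion e :=
    MorphismProperty.of_isPullback (P := @IsOpenImmersion) hpb.flip inferInstance
  refine ⟨V', π, hπf, hπs, fun x' hx' => ?_⟩
  obtain ⟨z, hz, -⟩ := Scheme.Pullback.exists_preimage_pullback (f := π) (g := A.ι) x' ⟨π x', hx'⟩ rfl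
  let c := hpb.flip.flip.isoPullback.inv z
  have hc : e c = x' := by
    rw [← hz, ← Scheme.Hom.comp_apply]
    exact congrArg (fun f => f.base z) hpb.isoPullback_inv_fst
  obtain ⟨k, d, hd⟩ := hjcov c
  obtain ⟨hrk, i, hi⟩ := hr k
  haveI := hj k
  let s : Spec (D k) ⟶ (U i).left := IsOpenImmersion.lift (Sigma.ι (fun i => (U i).left) i)
    (r k ≫ pullback.fst p hA.fromSpec) (by
      rintro _ ⟨y, rfl⟩
      obtain ⟨y', hy'⟩ := hi ⟨y, rfl⟩
      exact ⟨y', hy'.trans (Scheme.Hom.comp_apply _ _ _).symm⟩)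
  have hs : s ≫ (U i).hom = (j k ≫ e) ≫ π := by
    have h1 : s ≫ (U i).hom = r k ≫ pullback.fst p hA.fromSpec ≫ p := by
      rw [← Category.assoc, ← IsOpenImmersion.lift_fac (Sigma.ι (fun i => (U i).left) i)
        (r k ≫ pullback.fst p hA.fromSpec), Category.assoc]
      exact congrArg (s ≫ ·) (Sigma.ι_desc (fun i => (U i).hom) i).symm
    rw [h1, pullback.condition, ← Category.assoc, hrk, Category.assoc, Category.assoc, hpb.w]
    simp only [v, Category.assoc, hA.isoSpec_inv_ι]
  have := Factors.of_openImmersion U π (j k ≫ e) i s hs d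
  rwa [Scheme.Hom.comp_apply, hd, hc] at this

/-- An etale cover of a qcqs scheme factors, Zariski locally on some finite surjective scheme. -/
theorem exists_finite_refine [CompactSpace X] [QuasiSeparatedSpace X]
    (hcov : ∀ x : X, ∃ (i : ι) (v : (U i).left), (U i).hom v = x) :
    ∃ (X' : Scheme.{u}) (π : X' ⟶ X), IsFinite π ∧ Surjective π ∧ ∀ x', Factors U π x' := by
  classical
  have key : ∀ t : Finset X.affineOpens, ∃ (X' : Scheme.{u}) (π : X' ⟶ X), IsFinite π ∧
      Surjective π ∧ ∀ x', (∃ A ∈ t, π x' ∈ (A.1 : X.Opens)) → Factors U π x' := by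
    intro t
    induction t using Finset.induction with
    | empty => exact ⟨X, 𝟙 X, inferInstance, inferInstance, fun x' h => by simp at h⟩
    | insert A t hAt ih =>
      obtain ⟨X₁, π₁, h1, h2, h3⟩ := ih
      obtain ⟨X₂, π₂, k1, k2, k3⟩ := exists_finite_refine_affine U hcov A.1 A.2
      refine ⟨pullback π₁ π₂, pullback.fst π₁ π₂ ≫ π₁, inferInstance, inferInstance, fun x' hx' => ?_⟩
      obtain ⟨B, hB, hxB⟩ := hx'
      rcases Finset.mem_insert.1 hB with rfl | hB
      · rw [pullback.condition] at hxB ⊢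
        exact Factors.comp U π₂ _ x' (k3 _ (by rwa [Scheme.Hom.comp_apply] at hxB))
      · exact Factors.comp U π₁ _ x' (h3 _ ⟨B, hB, by rwa [Scheme.Hom.comp_apply] at hxB⟩)
  obtain ⟨t, ht⟩ := isCompact_univ.elim_finite_subcover (fun A : X.affineOpens => ((A.1 : X.Opens) : Set X))
    (fun A => A.1.isOpen) (fun x _ => by
      obtain ⟨A, hA, hx, -⟩ := exists_isAffineOpen_mem_and_subset (x := x) (U := ⊤) trivial
      exact Set.mem_iUnion.2 ⟨⟨A, hA⟩, hx⟩)
  obtain ⟨X', π, h1, h2, h3⟩ := key t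
  exact ⟨X', π, h1, h2, fun x' => h3 x' (by simpa using ht (Set.mem_univ (π x')))⟩

end Groth.Agent.Gabber24
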