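import Groth.Agent.S0153
import Groth.Agent.Lib.Gabber24.Criterion
import Groth.Agent.Lib.HensProper6.Apps

/-!
# Proper schemes over henselian pairs have the sections of their special part
-/

universe u

open CategoryTheory CategoryTheory.Limits AlgebraicGeometry Opposite TopologicalSpace

namespace Groth.Agent.Gabber24

variable {A : Type u} [CommRing A] {I : Ideal A} {X : Scheme.{u}}

theorem secEq_of_proper (hA : HenselianRing A I) (f : X ⟶ Spec (CommRingCat.of A)) [IsProper f] :
    SecEq X.carrier (f ⁻¹' PrimeSpectrum.zeroLocus (I : Set A)) := by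
  haveI : CompactSpace X := QuasiCompact.compactSpace_of_compactSpace f
  haveI : QuasiSeparatedSpace X := quasiSeparatedSpace_of_quasiSeparated f
  haveI : SpectralSpace X.carrier := {}
  set Z : Set X := f ⁻¹' PrimeSpectrum.zeroLocus (I : Set A) with hZdef
  have hZ : IsClosed Z := (PrimeSpectrum.isClosed_zeroLocus _).preimage f.continuous
  refine Groth.Agent.S0153.result X.carrier Z hZ (fun x => ⟨?_, ?_⟩)
  · by_contra hne
    have h0 := HensProper6.eq_empty_of_isClosed hA f (isClosed_closure (s := ({x} : Set X)))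
      (Set.disjoint_left.2 fun y hy hyZ => hne ⟨y, hyZ, hy⟩)
    exact Set.eq_empty_iff_forall_notMem.1 h0 x (subset_closure rfl)
  · rw [isPreconnected_closed_iff]
    intro t t' ht ht' hsub ha hb
    by_contra hd
    let C : Closeds X := ⟨closure {x}, isClosed_closure⟩
    let J := Scheme.IdealSheafData.vanishingIdeal C
    let j : J.subscheme ⟶ X := J.subschemeι
    have hj : Set.range j = closure {x} := by
      rw [Scheme.IdealSheafData.range_subschemeι, Scheme.IdealSheafData.coe_support_vanishingIdeal]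
      rfl
    haveI : IsProper (j ≫ f) := inferInstance
    let P : Set J.subscheme := j ⁻¹' (Z ∩ t)
    let Q : Set J.subscheme := j ⁻¹' (Z ∩ t')
    have hdisj : Disjoint P Q := Set.disjoint_left.2 fun y h1 h2 =>
      hd ⟨j y, ⟨h1.1, hj.le ⟨y, rfl⟩⟩, h1.2, h2.2⟩
    have hPQ : P ∪ Q = (j ≫ f) ⁻¹' PrimeSpectrum.zeroLocus (I : Set A) := by
      ext y
      constructor
      · rintro (h | h) <;> · rw [Set.mem_preimage, Scheme.Hom.comp_apply]; exact h.1
      · intro h
        rw [Set.mem_preimage, Scheme.Hom.comp_apply] at h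
        exact (hsub ⟨h, hj.le ⟨y, rfl⟩⟩).imp (fun h' => ⟨h, h'⟩) (fun h' => ⟨h, h'⟩)
    obtain ⟨W, hW, hPW, hWQ⟩ := HensProper6.exists_isClopen hA (j ≫ f)
      ((hZ.inter ht).preimage j.continuous) ((hZ.inter ht').preimage j.continuous) hdisj hPQ
    have hirr : _root_.IsPreconnected (Set.univ : Set J.subscheme) := by
      rw [← j.isClosedEmbedding.isEmbedding.isInducing.isPreconnected_image, Set.image_univ, hj]
      exact isPreconnected_singleton.closure
    haveI : PreconnectedSpace J.subscheme := ⟨hirr⟩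
    obtain ⟨a, ⟨ha1, ha2⟩, ha3⟩ := ha
    obtain ⟨b, ⟨hb1, hb2⟩, hb3⟩ := hb
    obtain ⟨a', rfl⟩ := hj.ge ha2
    obtain ⟨b', rfl⟩ := hj.ge hb2
    rcases isClopen_iff.1 hW with rfl | rfl
    · exact hPW (show a' ∈ P from ⟨ha1, ha3⟩)
    · exact Set.disjoint_left.1 hWQ trivial (show b' ∈ Q from ⟨hb1, hb3⟩)

/-- Restriction to the special part is bijective on global sections of abelian etale sheaves. -/
theorem bijective_unit_proper (hA : HenselianRing A I) (f : X ⟶ Spec (CommRingCat.of A)) [IsProper f]
    {Z : Scheme.{u}} (i : Z ⟶ X) [IsClosedImmersion i]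
    (hi : Set.range i = f ⁻¹' PrimeSpectrum.zeroLocus (I : Set A)) (F : EtCoh.Ab X) :
    Function.Bijective (((EtCoh.pullPushAdj i).unit.app F).hom.app (op (EtCoh.top X))) := by
  haveI : CompactSpace X := QuasiCompact.compactSpace_of_compactSpace f
  haveI : QuasiSeparatedSpace X := quasiSeparatedSpace_of_quasiSeparated f
  refine bijective_unit i (hi.symm ▸ secEq_of_proper hA f) (fun X' π hπ => ?_) F
  have h := secEq_of_proper hA (π ≫ f)
  rwa [show (π ≫ f) ⁻¹' PrimeSpectrum.zeroLocus (I : Set A) = π ⁻¹' Set.range i by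
    rw [hi]; rfl] at h

end Groth.Agent.Gabber24
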