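import Groth.Agent.Lib.EtStalk.Agree

/-!
# Agreement of local sections along maps to etale schemes
-/

universe u

open CategoryTheory CategoryTheory.Limits AlgebraicGeometry Opposite

set_option backward.isDefEq.respectTransparency.types false

namespace Groth.Agent.Gabber24

open Groth.Agent.EtStalk

variable {X : Scheme.{u}} (F : EtCoh.Ab X)

/-- The value at a geometric point of a section, through a chosen lift. -/
noncomputable def val {Ω : Type u} [Field Ω] [IsSepClosed Ω] (ξ : Spec (CommRingCat.of Ω) ⟶ X)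
    {V : X.Etale} (a : Spec (CommRingCat.of Ω) ⟶ V.left) (h : a ≫ V.hom = ξ) (s : F.obj.obj (op V)) :
    (EtCoh.stalk ξ).obj F :=
  germ ξ F (U := V) (Over.homMk a h) s

lemma val_map {Ω : Type u} [Field Ω] [IsSepClosed Ω] (ξ : Spec (CommRingCat.of Ω) ⟶ X)
    {V W : X.Etale} (g : W ⟶ V) (a : Spec (CommRingCat.of Ω) ⟶ W.left) (h : a ≫ W.hom = ξ)
    (a' : Spec (CommRingCat.of Ω) ⟶ V.left) (h' : a' ≫ V.hom = ξ) (e : a ≫ g.left = a')
    (s : F.obj.obj (op V)) :
    val F ξ a h (F.obj.map g.op s) = val F ξ a' h' s := by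
  refine (germ_map ξ F g _ s).trans (congrArg (fun z => germ ξ F (U := V) z s) ?_)
  exact Over.OverMorphism.ext e

lemma val_congr {Ω : Type u} [Field Ω] [IsSepClosed Ω] {ξ ξ' : Spec (CommRingCat.of Ω) ⟶ X} (e : ξ = ξ')
    {V V' : X.Etale} {a : Spec (CommRingCat.of Ω) ⟶ V.left} {b : Spec (CommRingCat.of Ω) ⟶ V'.left}
    {ha : a ≫ V.hom = ξ} {hb : b ≫ V'.hom = ξ} {s : F.obj.obj (op V)} {s' : F.obj.obj (op V')} :
    val F ξ a ha s = val F ξ b hb s' ↔
      val F ξ' a (ha.trans e) s = val F ξ' b (hb.trans e) s' := by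
  subst e
  rfl

/-- The fibre product of two etale schemes over `X`. -/
noncomputable def prod (V W : X.Etale) : X.Etale :=
  MorphismProperty.Over.mk ⊤ (pullback.fst V.hom W.hom ≫ V.hom) (by
    have : AlgebraicGeometry.Etale V.hom := V.prop
    have : AlgebraicGeometry.Etale W.hom := W.prop
    infer_instance)

noncomputable def prodFst (V W : X.Etale) : prod V W ⟶ V :=
  MorphismProperty.Over.homMk (pullback.fst V.hom W.hom) rfl

noncomputable def prodSnd (V W : X.Etale) : prod V W ⟶ W :=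
  MorphismProperty.Over.homMk (pullback.snd V.hom W.hom) pullback.condition.symm

variable {Y : Scheme.{u}} {q : Y ⟶ X} {V W : X.Etale} {a : Y ⟶ V.left} {b : Y ⟶ W.left}
  (ha : a ≫ V.hom = q) (hb : b ≫ W.hom = q) (s : F.obj.obj (op V)) (s' : F.obj.obj (op W))

/-- Where two sections, pulled to `Y` through `a` and `b`, agree. -/
noncomputable def same : Set Y :=
  (pullback.lift a b (ha.trans hb.symm) : Y ⟶ (prod V W).left) ⁻¹'
    agree F (F.obj.map (prodFst V W).op s) (F.obj.map (prodSnd V W).op s')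

lemma isOpen_same : IsOpen (same F ha hb s s') :=
  (isOpen_agree F _ _).preimage (Scheme.Hom.continuous _)

/-- Agreement is tested at any geometric point. -/
lemma mem_same_iff {Ω : Type u} [Field Ω] [IsSepClosed Ω] (ξ : Spec (CommRingCat.of Ω) ⟶ Y) :
    ξ default ∈ same F ha hb s s' ↔
      val F (ξ ≫ q) (ξ ≫ a) (by rw [Category.assoc, ha]) s =
        val F (ξ ≫ q) (ξ ≫ b) (by rw [Category.assoc, hb]) s' := by
  let l : Y ⟶ (prod V W).left := pullback.lift a b (ha.trans hb.symm)
  have hl : l ≫ (prod V W).hom = q := by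
    show l ≫ pullback.fst V.hom W.hom ≫ V.hom = q
    exact (Category.assoc _ _ _).symm.trans ((congrArg (· ≫ V.hom) (pullback.lift_fst _ _ _)).trans ha)
  let φ : fib (ξ ≫ q) (prod V W) := Over.homMk (ξ ≫ l) (by
    show (ξ ≫ l) ≫ (prod V W).hom = ξ ≫ q
    rw [Category.assoc, hl])
  have h1 : fibPt φ = l (ξ default) := Scheme.Hom.comp_apply ξ l default
  show l (ξ default) ∈ agree F _ _ ↔ _
  rw [← h1, mem_agree_iff_germ]
  have e1 : germ (ξ ≫ q) F φ (F.obj.map (prodFst V W).op s) =
      val F (ξ ≫ q) (ξ ≫ a) (by rw [Category.assoc, ha]) s :=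
    val_map F _ (prodFst V W) _ _ _ _
      ((Category.assoc _ _ _).trans (congrArg (ξ ≫ ·) (pullback.lift_fst _ _ _))) s
  have e2 : germ (ξ ≫ q) F φ (F.obj.map (prodSnd V W).op s') =
      val F (ξ ≫ q) (ξ ≫ b) (by rw [Category.assoc, hb]) s' :=
    val_map F _ (prodSnd V W) _ _ _ _
      ((Category.assoc _ _ _).trans (congrArg (ξ ≫ ·) (pullback.lift_snd _ _ _))) s'
  rw [e1, e2]

lemma mem_same_geomPt (y : Y) :
    y ∈ same F ha hb s s' ↔
      val F (geomPt Y y ≫ q) (geomPt Y y ≫ a) (by rw [Category.assoc, ha]) s =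
        val F (geomPt Y y ≫ q) (geomPt Y y ≫ b) (by rw [Category.assoc, hb]) s' := by
  rw [← mem_same_iff F ha hb s s' (geomPt Y y), geomPt_default]

lemma same_symm {y : Y} (h : y ∈ same F ha hb s s') : y ∈ same F hb ha s' s := by
  rw [mem_same_geomPt] at h ⊢
  exact h.symm

lemma same_trans {U : X.Etale} {c : Y ⟶ U.left} (hc : c ≫ U.hom = q) {s'' : F.obj.obj (op U)} {y : Y}
    (h : y ∈ same F ha hb s s') (h' : y ∈ same F hb hc s' s'') : y ∈ same F ha hc s s'' := by
  rw [mem_same_geomPt] at h h' ⊢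
  exact h.trans h'

lemma same_self (y : Y) : y ∈ same F ha ha s s := (mem_same_geomPt F ha ha s s y).2 rfl

lemma mem_same_comp {Y' : Scheme.{u}} (g : Y' ⟶ Y) {q' : Y' ⟶ X} {a' : Y' ⟶ V.left} {b' : Y' ⟶ W.left}
    (ha' : a' ≫ V.hom = q') (hb' : b' ≫ W.hom = q') (ea : g ≫ a = a') (eb : g ≫ b = b') (y : Y') :
    y ∈ same F ha' hb' s s' ↔ g y ∈ same F ha hb s s' := by
  have e : g ≫ pullback.lift a b (ha.trans hb.symm) = pullback.lift a' b' (ha'.trans hb'.symm) := by
    apply pullback.hom_ext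
    · rw [Category.assoc, pullback.lift_fst, pullback.lift_fst, ea]
    · rw [Category.assoc, pullback.lift_snd, pullback.lift_snd, eb]
  let A := agree F (F.obj.map (prodFst V W).op s) (F.obj.map (prodSnd V W).op s')
  show (pullback.lift a' b' (ha'.trans hb'.symm) : Y' ⟶ (prod V W).left) y ∈ A ↔ _
  have e2 : (pullback.lift a' b' (ha'.trans hb'.symm) : Y' ⟶ (prod V W).left) y =
      (pullback.lift a b (ha.trans hb.symm) : Y ⟶ (prod V W).left) (g y) :=
    (congrArg (fun f => f.base y) e.symm).trans (Scheme.Hom.comp_apply g _ y)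
  rw [e2]
  rfl

/-- Agreement on a jointly surjective family forces equal sections. -/
lemma eq_of_val {U : X.Etale} {t t' : F.obj.obj (op U)}
    (h : ∀ (u : U.left), u ∈ same F (a := 𝟙 U.left) (b := 𝟙 U.left) (Category.id_comp U.hom)
      (Category.id_comp U.hom) t t') : t = t' :=
  eq_of_agree F fun u => by
    obtain ⟨φ, hφ⟩ := exists_fib U u
    let a₀ : Spec (CommRingCat.of (SeparableClosure (X.residueField (U.hom u)))) ⟶ U.left := φ.left
    have ha₀ : a₀ ≫ U.hom = geomPt X (U.hom u) := Over.w φ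
    have h1 := (mem_same_iff F (Category.id_comp U.hom) (Category.id_comp U.hom) t t' a₀).1
      (by rw [show a₀ default = u from hφ]; exact h u)
    simp only [Category.comp_id] at h1
    rw [val_congr F ha₀] at h1
    rw [← show fibPt φ = u from hφ, mem_agree_iff_germ]
    exact h1

end Groth.Agent.Gabber24
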