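import Groth.Agent.Lib.Gabber24.Topo

/-!
# Connected intersections with point closures, and pieces of germs
-/

open CategoryTheory Limits TopologicalSpace Opposite Topology

universe u

namespace Groth.Agent.Gabber24

variable {X : TopCat.{u}} {Z : Set X}

theorem SecEq.isConnected (h : SecEq X Z) (hZ : IsClosed Z) (x : X) :
    IsConnected (Z ∩ closure {x}) := by
  refine ⟨Set.inter_comm Z _ ▸ h.meets isClosed_closure ⟨x, subset_closure rfl⟩, ?_⟩
  rw [isPreconnected_closed_iff]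
  intro t t' ht ht' hsub ha hb
  by_contra hd
  let C : Set X := closure {x}
  let j : TopCat.of C ⟶ X := TopCat.ofHom ⟨(Subtype.val : C → X), continuous_subtype_val⟩
  let F : TopCat.Sheaf (Type u) X :=
    (TopCat.Sheaf.pushforward (Type u) j).obj
      (TopCat.sheafToTop (X := TopCat.of C) (TopCat.of (ULift.{u} Bool)))
  let A : Set X := Z ∩ C ∩ t
  let B : Set X := Z ∩ C ∩ t'
  have hA : IsClosed A := (hZ.inter isClosed_closure).inter ht
  have hB : IsClosed B := (hZ.inter isClosed_closure).inter ht'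
  have hAB : ∀ z, z ∈ A → z ∈ B → False := fun z h1 h2 => hd ⟨z, h1.1, h1.2, h2.2⟩
  let U : ULift.{u} Bool → Opens X := fun b => cond b.down ⟨Bᶜ, hB.isOpen_compl⟩ ⟨Aᶜ, hA.isOpen_compl⟩
  let s : ∀ b, F.presheaf.obj (op (U b)) := fun b => (show _ from
    TopCat.ofHom (X := (TopologicalSpace.Opens.toTopCat (TopCat.of C)).obj ((Opens.map j).obj (U b)))
      (Y := TopCat.of (ULift.{u} Bool)) ⟨fun _ => b, continuous_const⟩)
  obtain ⟨σ, hσ⟩ := h.exists_section F U (fun z hz => by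
      by_cases hzB : z ∈ B
      · exact ⟨⟨false⟩, fun hzA => hAB z hzA hzB⟩
      · exact ⟨⟨true⟩, hzB⟩) s (fun z hz b b' hb hb' => by
      rcases b with ⟨b⟩
      rcases b' with ⟨b'⟩
      by_cases e : b = b'
      · subst e; rfl
      have hzC : z ∉ C := fun hzC => by
        have hno : z ∉ A ∧ z ∉ B := by
          cases b <;> cases b' <;> simp_all [U]
        rcases hsub ⟨hz, hzC⟩ with h1 | h1
        · exact hno.1 ⟨⟨hz, hzC⟩, h1⟩
        · exact hno.2 ⟨⟨hz, hzC⟩, h1⟩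
      refine F.presheaf.germ_ext (U ⟨b⟩ ⊓ U ⟨b'⟩ ⊓ ⟨Cᶜ, isClosed_closure.isOpen_compl⟩) ⟨⟨hb, hb'⟩, hzC⟩
        (homOfLE (inf_le_left.trans inf_le_left)) (homOfLE (inf_le_left.trans inf_le_right)) ?_
      show @Eq (_ ⟶ TopCat.of (ULift.{u} Bool)) _ _
      exact ConcreteCategory.hom_ext _ _ fun y => absurd y.1.2 y.2.2)
  let f : C → ULift.{u} Bool := fun c => σ.hom.toFun ⟨c, trivial⟩
  have hf : Continuous f := σ.hom.continuous.comp (Continuous.subtype_mk continuous_id _)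
  have key : ∀ (b : ULift.{u} Bool) (z : X) (hz : z ∈ Z) (hzC : z ∈ C) (hzU : z ∈ U b), f ⟨z, hzC⟩ = b := by
    intro b z hz hzC hzU
    obtain ⟨W, hzW, iT, iU, e⟩ := F.presheaf.germ_eq z _ _ _ _ (hσ z hz b hzU)
    exact congrArg (fun g : (F.presheaf.obj (op W)) => g.hom.toFun ⟨⟨z, hzC⟩, hzW⟩) e
  obtain ⟨a, ⟨ha1, ha2⟩, ha3⟩ := ha
  obtain ⟨b, ⟨hb1, hb2⟩, hb3⟩ := hb
  haveI : PreconnectedSpace C :=
    isPreconnected_iff_preconnectedSpace.mp isPreconnected_singleton.closure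
  have e1 := key ⟨true⟩ a ha1 ha2 (fun hh => hAB a ⟨⟨ha1, ha2⟩, ha3⟩ hh)
  have e2 := key ⟨false⟩ b hb1 hb2 (fun hh => hAB b hh ⟨⟨hb1, hb2⟩, hb3⟩)
  have e3 := PreconnectedSpace.constant (f := f) (by infer_instance) hf (x := ⟨a, ha2⟩) (y := ⟨b, hb2⟩)
  exact Bool.noConfusion (congrArg ULift.down (e1.symm.trans (e3.trans e2)))

/-- Shrinking a family around `Z` so that a given agreement relation holds on all overlaps. -/
theorem exists_shrink [SpectralSpace X] (hZ : IsClosed Z) (hconn : ∀ x : X, IsConnected (Z ∩ closure {x}))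
    {ι : Type u} (U : ι → Opens X) (hUc : ∀ i, IsCompact (U i : Set X))
    (hcov : ∀ z ∈ Z, ∃ i, z ∈ U i) (E : ι → ι → Set X) (hE : ∀ i j, IsOpen (E i j))
    (hsymm : ∀ i j, ∀ x ∈ U i, x ∈ U j → x ∈ E i j → x ∈ E j i)
    (htrans : ∀ i j k, ∀ x ∈ U i, x ∈ U j → x ∈ U k → x ∈ E i j → x ∈ E j k → x ∈ E i k)
    (hEZ : ∀ i j, ∀ z ∈ Z, z ∈ U i → z ∈ U j → z ∈ E i j) :
    ∃ V : ι → Opens X, (∀ i, V i ≤ U i) ∧ (∀ x, ∃ i, x ∈ V i) ∧
      ∀ i j, ∀ x ∈ V i, x ∈ V j → x ∈ E i j := by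
  classical
  obtain ⟨t, ht⟩ := hZ.isCompact.elim_finite_subcover (fun i => (U i : Set X)) (fun i => (U i).isOpen)
    (fun z hz => Set.mem_iUnion.2 (hcov z hz))
  let G : ι → Set X := fun i => {x | x ∈ U i ∧ ∀ j, ∀ z ∈ Z, x ⤳ z → z ∈ U j → x ∈ E i j}
  have hG : ∀ (x z : X) (i : ι), z ∈ Z → x ⤳ z → z ∈ U i → x ∈ G i := by
    intro x z i hz hxz hzi
    have hxi : x ∈ U i := hxz.mem_open (U i).isOpen hzi
    have hmem : ∀ (j : ι) (w : X), w ∈ closure ({x} : Set X) → w ∈ U j → x ∈ U j := fun j w hw hwj =>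
      (specializes_iff_mem_closure.2 hw).mem_open (U j).isOpen hwj
    have hloc : ∀ (w : X) (j k : ι), w ∈ Z → w ∈ closure ({x} : Set X) → w ∈ U j → w ∈ U k → x ∈ E j k :=
      fun w j k hw hwx hwj hwk =>
        (specializes_iff_mem_closure.2 hwx).mem_open (hE j k) (hEZ j k w hw hwj hwk)
    let S : Set X := {w | ∀ j, w ∈ U j → x ∈ E i j}
    refine ⟨hxi, fun j w hw hxw hwj => ?_⟩
    by_contra hne
    let O₁ : Set X := ⋃ (k : ι) (_ : x ∈ E i k), (U k : Set X)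
    let O₂ : Set X := ⋃ (k : ι) (_ : x ∉ E i k), (U k : Set X)
    obtain ⟨q, ⟨hq, hqx⟩, hq1, hq2⟩ := (hconn x).isPreconnected O₁ O₂
      (isOpen_biUnion fun k _ => (U k).isOpen) (isOpen_biUnion fun k _ => (U k).isOpen)
      (fun q hq => by
        obtain ⟨k, hk⟩ := hcov q hq.1
        by_cases hh : x ∈ E i k
        · exact Or.inl (Set.mem_iUnion₂.2 ⟨k, hh, hk⟩)
        · exact Or.inr (Set.mem_iUnion₂.2 ⟨k, hh, hk⟩))
      ⟨z, ⟨hz, specializes_iff_mem_closure.1 hxz⟩, Set.mem_iUnion₂.2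
        ⟨i, hxz.mem_open (hE i i) (hEZ i i z hz hzi hzi), hzi⟩⟩
      ⟨w, ⟨hw, specializes_iff_mem_closure.1 hxw⟩, Set.mem_iUnion₂.2 ⟨j, hne, hwj⟩⟩
    obtain ⟨k, hk, hqk⟩ := Set.mem_iUnion₂.1 hq1
    obtain ⟨l, hl, hql⟩ := Set.mem_iUnion₂.1 hq2
    exact hl (htrans i k l x hxi (hmem k q hqx hqk) (hmem l q hqx hql) hk (hloc q k l hq hqx hqk hql))
  let T : ι → ι → Set X := fun i j =>
    {y | ∃ z ∈ Z ∩ (U j : Set X), y ⤳ z} ∩ (U i : Set X) ∩ (E i j)ᶜ
  have hT : ∀ i j, IsClosed[constructibleTopology X] (T i j) := fun i j => by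
    refine @IsClosed.inter _ _ _ (constructibleTopology X) (@IsClosed.inter _ _ _ (constructibleTopology X) ?_ ?_) ?_
    · exact SpectralSec.isClosed_meets _ ((hUc j).inter_left hZ)
    · exact @IsClosed.mk _ (constructibleTopology X) _
        ((show IsCompact ((U i : Set X)ᶜ)ᶜ by rw [compl_compl]; exact hUc i).isOpen_constructibleTopology_of_isClosed
          (U i).isOpen.isClosed_compl)
    · exact SpectralSec.isClosed_constructible_of_isClosed (hE i j).isClosed_compl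
  let V : ι → Opens X := fun i => ⟨(U i : Set X) ∩ (⋃ j ∈ t, closure (T i j))ᶜ,
    (U i).isOpen.inter (Set.Finite.isClosed_biUnion t.finite_toSet fun j _ => isClosed_closure).isOpen_compl⟩
  have hVG : ∀ i x, x ∈ V i → x ∈ G i := fun i x hx => by
    obtain ⟨z, hz, hzx⟩ := (hconn x).nonempty
    obtain ⟨j, hj, hzj⟩ : ∃ j ∈ t, z ∈ U j := by simpa using ht hz
    have hxz := specializes_iff_mem_closure.2 hzx
    have hxj := hxz.mem_open (U j).isOpen hzj
    have hij : x ∈ E i j := by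
      by_contra hne
      exact hx.2 (Set.mem_iUnion₂.2 ⟨j, hj, subset_closure ⟨⟨⟨z, ⟨hz, hzj⟩, hxz⟩, hx.1⟩, hne⟩⟩)
    refine ⟨hx.1, fun k w hw hxw hwk => ?_⟩
    exact htrans i j k x hx.1 hxj (hxw.mem_open (U k).isOpen hwk) hij
      ((hG x z j hz hxz hzj).2 k w hw hxw hwk)
  refine ⟨V, fun i x hx => hx.1, fun x => ?_, fun i j x hxi hxj => ?_⟩
  · obtain ⟨z, hz, hzx⟩ := (hconn x).nonempty
    obtain ⟨i, hzi⟩ := hcov z hz
    have hxz := specializes_iff_mem_closure.2 hzx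
    refine ⟨i, hxz.mem_open (U i).isOpen hzi, ?_⟩
    rintro hmem
    obtain ⟨j, hj, hcl⟩ := Set.mem_iUnion₂.1 hmem
    obtain ⟨y, ⟨⟨⟨w, hw, hyw⟩, -⟩, hne⟩, hyx⟩ := SpectralSec.exists_specializes_of_mem_closure _ (hT i j) x hcl
    exact hne ((hG y z i hz (hyx.trans hxz) hzi).2 j w hw.1 hyw hw.2)
  · obtain ⟨z, hz, hzx⟩ := (hconn x).nonempty
    obtain ⟨k, hzk⟩ := hcov z hz
    have hxz := specializes_iff_mem_closure.2 hzx
    have hxk := hxz.mem_open (U k).isOpen hzk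
    have h1 := (hVG i x hxi).2 k z hz hxz hzk
    have h2 := (hVG j x hxj).2 k z hz hxz hzk
    exact htrans i k j x hxi.1 hxk hxj.1 h1 (hsymm j k x hxj.1 hxk h2)

end Groth.Agent.Gabber24
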