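import Groth.Agent.Lib.AIC6.Cohom
import Groth.Agent.Lib.LocAcycBC6.Vanish
import Groth.Agent.Lib.StrictLim24.Section
import Groth.Agent.Lib.StalkCrit24.Sections

/-!
# Gabber's criterion: splitting of sections from injectivity on first cohomology
-/

set_option autoImplicit false
set_option backward.isDefEq.respectTransparency false
set_option backward.isDefEq.respectTransparency.types false

universe u

open CategoryTheory CategoryTheory.Limits Opposite AlgebraicGeometry CategoryTheory.Abelian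

namespace Groth.Agent.Gabber24

open AIC6 EtSite NormSep24 EtStalk EtAcyc24

variable {R : Type u} [CommRing R] (F : EtCoh.Ab (XS R))

/-- Morphisms into the base change of an open are unique. -/
theorem hom_ext_bc {Z : Scheme.{u}} (j : Z ⟶ XS R) {O : (XS R).Opens} {W : Z.Etale}
    (a b : W ⟶ (EtCoh.bc j).obj (obj O)) : a = b := by
  refine MorphismProperty.Over.Hom.ext ?_
  haveI : Mono (obj O).hom := inferInstanceAs (Mono (O.ι ≫ 𝟙 (XS R)))
  haveI : Mono (pullback.snd (obj O).hom j) := inferInstance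
  exact (cancel_mono (pullback.snd (obj O).hom j)).1
    ((MorphismProperty.Over.w a).trans (MorphismProperty.Over.w b).symm)

theorem injective_f {S : ShortComplex (EtCoh.Ab (XS R))} (hS : S.ShortExact) (U : (XS R).Etale) :
    Function.Injective (S.f.hom.app (op U)) := by
  haveI := hS.mono_f
  have h : Mono ((EtColim.secFun U).map S.f) := inferInstance
  rw [AddCommGrpCat.mono_iff_injective] at h
  exact h

variable {C A B AB : (XS R).Opens} (hA : A ≤ C) (hB : B ≤ C)

/-- An open of `C` as an étale `C`-scheme. -/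
noncomputable abbrev part : (↑C : Scheme.{u}).Etale :=
  MorphismProperty.Over.mk ⊤ ((XS R).homOfLE hA) inferInstance

/-- The part maps into the base change of the open. -/
noncomputable abbrev partHom : part hA ⟶ (EtCoh.bc C.ι).obj (obj A) :=
  MorphismProperty.Over.homMk
    (pullback.lift (𝟙 _) ((XS R).homOfLE hA)
      ((Category.id_comp _).trans ((Category.comp_id _).trans (Scheme.homOfLE_ι _ hA).symm)))
    (pullback.lift_snd _ _ _)

theorem Hpull_part_eq_zero {S : ShortComplex (EtCoh.Ab (XS R))} (hS : S.ShortExact)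
    [PreservesFiniteLimits (EtCoh.pull C.ι)] [(EtCoh.pull C.ι).Additive]
    (a : EtCoh.const (↑C : Scheme.{u}) ℤ ⟶ (EtCoh.pull C.ι).obj S.X₃) (q : secs S.X₃ C)
    (ha : a.hom.app (op (EtCoh.top (↑C : Scheme.{u}))) (oneSec (↑C : Scheme.{u})) =
      StrictLim24.sec C.ι S.X₃ (obj C) (𝟙 _) ((Category.id_comp _).trans (Category.comp_id _)) q)
    (t : secs S.X₂ A) (ht : S.g.hom.app _ t = rmap S.X₃ hA q) :
    EtCore.Hpull ((XS R).homOfLE hA) ((EtCoh.pull C.ι).obj S.X₁) 1
      ((Ext.mk₀ a).comp (hS.map_of_exact (EtCoh.pull C.ι)).extClass rfl) = 0 := by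
  refine LocAcycBC6.Hpull_eq_zero_of_lift (hS.map_of_exact (EtCoh.pull C.ι)) (part hA) a
    (((EtCoh.pull C.ι).obj S.X₂).obj.map (partHom hA).op ((uHom C.ι S.X₂).hom.app (op (obj A)) t)) ?_
  refine (NatTrans.naturality_apply ((EtCoh.pull C.ι).map S.g).hom (partHom hA).op _).trans ?_
  refine Eq.trans ?_ (congrArg (((EtCoh.pull C.ι).obj S.X₃).obj.map ((EtCore.topIsTerminal _).from (part hA)).op) ha.symm)
  refine Eq.trans ?_ (Functor.map_comp_apply ((EtCoh.pull C.ι).obj S.X₃).obj _ _ _)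
  have h1 : ((EtCoh.pull C.ι).map S.g).hom.app (op ((EtCoh.bc C.ι).obj (obj A)))
      ((uHom C.ι S.X₂).hom.app (op (obj A)) t) =
      ((EtCoh.pull C.ι).obj S.X₃).obj.map ((EtCoh.bc C.ι).map (res hA)).op
        ((uHom C.ι S.X₃).hom.app (op (obj C)) q) := by
    refine ((congrArg (fun φ : S.X₂ ⟶ (EtCoh.push C.ι).obj ((EtCoh.pull C.ι).obj S.X₃) => φ.hom.app (op (obj A)) t)
      ((EtCoh.pullPushAdj C.ι).unit.naturality S.g)).symm).trans ?_
    refine (congrArg ((uHom C.ι S.X₃).hom.app (op (obj A))) ht).trans ?_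
    exact NatTrans.naturality_apply (uHom C.ι S.X₃).hom (res hA).op q
  refine (congrArg _ h1).trans ?_
  refine (Functor.map_comp_apply ((EtCoh.pull C.ι).obj S.X₃).obj _ _ _).symm.trans ?_
  rw [← op_comp, ← op_comp]
  exact congrArg (fun m : part hA ⟶ (EtCoh.bc C.ι).obj (obj C) =>
    ((EtCoh.pull C.ι).obj S.X₃).obj.map m.op ((uHom C.ι S.X₃).hom.app (op (obj C)) q)) (hom_ext_bc C.ι _ _)

theorem split_of_ker (hcov : ∀ x ∈ C, x ∈ A ∨ x ∈ B) (hAB : AB ≤ A) (hAB' : AB ≤ B) (hle : A ⊓ B ≤ AB)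
    (hker : ∀ ξ : EtCoh.H (↑C : Scheme.{u}) ((EtCoh.pull C.ι).obj F) 1,
      EtCore.Hpull ((XS R).homOfLE hA) _ 1 ξ = 0 → EtCore.Hpull ((XS R).homOfLE hB) _ 1 ξ = 0 → ξ = 0)
    (s : secs F AB) : ∃ (a : secs F A) (b : secs F B), s = rmap F hAB a - rmap F hAB' b := by
  have hS := injSeq_shortExact F
  haveI : Injective (injSeq F).X₂ := inferInstanceAs (Injective (Injective.under F))
  haveI : (EtCoh.pull C.ι).Additive := (EtCoh.pullPushAdj C.ι).left_adjoint_additive
  haveI := mono_res (R := R) hAB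
  obtain ⟨ta, hta⟩ := surjective_map_of_injective (injSeq F).X₂ (res hAB) ((injSeq F).f.hom.app _ s)
  obtain ⟨q, hqA, hqB⟩ := glue_two (injSeq F).X₃ hA hB hcov ((injSeq F).g.hom.app _ ta) 0 (by
    rw [map_zero, ← g_rmap, show rmap (injSeq F).X₂ (inf_le_left : A ⊓ B ≤ A) ta =
      rmap (injSeq F).X₂ hle (rmap (injSeq F).X₂ hAB ta) from (rmap_rmap _ _ _ _).symm,
      show rmap (injSeq F).X₂ hAB ta = (injSeq F).f.hom.app _ s from hta, g_rmap, g_f, map_zero])
  obtain ⟨a, ha⟩ := (StalkCrit24.bijective_ev ((EtCoh.pull C.ι).obj (injSeq F).X₃)).2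
    (StrictLim24.sec C.ι (injSeq F).X₃ (obj C) (𝟙 _) ((Category.id_comp _).trans (Category.comp_id _)) q)
  have hξ := hker _ (Hpull_part_eq_zero hA hS a q ha ta hqA.symm)
    (Hpull_part_eq_zero hB hS a q ha 0 (by rw [map_zero]; exact hqB.symm))
  obtain ⟨z, hz⟩ := Ext.covariant_sequence_exact₃ _ (hS.map_of_exact (EtCoh.pull C.ι)) _ rfl hξ
  obtain ⟨c, rfl⟩ := (Ext.mk₀_bijective _ _).2 z
  rw [Ext.mk₀_comp_mk₀] at hz
  have hc : c ≫ (EtCoh.pull C.ι).map (injSeq F).g = a := (Ext.mk₀_bijective _ _).1 hz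
  haveI : IsIso (𝟙 (obj C).left) := inferInstance
  obtain ⟨t, ht⟩ := (StrictLim24.bijective_sec C.ι (injSeq F).X₂ (obj C) (𝟙 _)
    ((Category.id_comp _).trans (Category.comp_id _))).2 (c.hom.app _ (oneSec (↑C : Scheme.{u})))
  have hg : (injSeq F).g.hom.app _ t = q := by
    refine (StrictLim24.bijective_sec C.ι (injSeq F).X₃ (obj C) (𝟙 _)
      ((Category.id_comp _).trans (Category.comp_id _))).1 ?_
    rw [← StrictLim24.sec_nat, ht]
    refine Eq.trans ?_ ha
    rw [← hc]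
    rfl
  obtain ⟨α, hα⟩ := exists_f hS (rmap (injSeq F).X₂ hA t - ta) (by rw [map_sub, g_rmap, hg, hqA, sub_self])
  obtain ⟨β, hβ⟩ := exists_f hS (rmap (injSeq F).X₂ hB t) (by rw [g_rmap, hg, hqB])
  refine ⟨-α, -β, injective_f hS _ ?_⟩
  show (injSeq F).f.hom.app _ s =
    (injSeq F).f.hom.app _ (rmap (injSeq F).X₁ hAB (-α) - rmap (injSeq F).X₁ hAB' (-β))
  rw [map_sub, f_rmap, f_rmap, map_neg ((injSeq F).f.hom.app (op (obj A))).hom α,
    map_neg ((injSeq F).f.hom.app (op (obj B))).hom β]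
  simp only [hα, hβ, map_neg, map_sub, rmap_rmap,
    show rmap (injSeq F).X₂ hAB ta = (injSeq F).f.hom.app _ s from hta]
  abel

end Groth.Agent.Gabber24
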