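import Groth.Agent.Lib.EtStalk.IntegralUniv
import Groth.Agent.Lib.EtStalk.OpenImm
import Groth.Agent.Lib.FieldH25.Transfer
import Groth.Agent.Lib.LocAcycBC6.Vanish

/-!
# Vanishing of classes on a union of two closed subschemes
-/

set_option autoImplicit false
set_option linter.style.haveILetI false
set_option backward.isDefEq.respectTransparency.types false

universe u

open CategoryTheory CategoryTheory.Limits AlgebraicGeometry Opposite CategoryTheory.Abelian

namespace Groth.Agent.Gabber24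

open Groth.Agent.EtStalk

variable {Z Z₁ Z₂ W : Scheme.{u}}

lemma mem_range_of_not_isZero (i : Z₁ ⟶ Z) [IsClosedImmersion i] (G : EtCoh.Ab Z₁) {Ω : Type u} [Field Ω]
    [IsSepClosed Ω] (ξ : Spec (CommRingCat.of Ω) ⟶ Z) (h : ¬ IsZero ((EtCoh.stalk ξ).obj ((EtCoh.push i).obj G))) :
    ξ default ∈ Set.range i := by
  by_contra hn
  exact h (stalk_push_isZero i G ξ hn)

/-- The kernel of the unit of a closed immersion is supported off it. -/
lemma isZero_stalk_kernel_unit (i : Z₁ ⟶ Z) [IsClosedImmersion i] (F : EtCoh.Ab Z) {Ω : Type u} [Field Ω]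
    [IsSepClosed Ω] (ξ : Spec (CommRingCat.of Ω) ⟶ Z) (h : ξ default ∈ Set.range i) :
    IsZero ((EtCoh.stalk ξ).obj (kernel ((EtCoh.pullPushAdj i).unit.app F))) := by
  obtain ⟨ζ, rfl⟩ := exists_lift_point i ξ h
  haveI : IsIso ((EtCoh.stalk (ζ ≫ i)).map ((EtCoh.pullPushAdj i).unit.app F)) := by
    rw [show (EtCoh.stalk (ζ ≫ i)).map ((EtCoh.pullPushAdj i).unit.app F) =
        stalkPull i ζ F ≫ inv (pushStalk i ζ ((EtCoh.pull i).obj F)) by
          rw [IsIso.eq_comp_inv, unit_pushStalk]]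
    infer_instance
  exact (isZero_kernel_of_mono ((EtCoh.stalk (ζ ≫ i)).map ((EtCoh.pullPushAdj i).unit.app F))).of_iso
    (PreservesKernel.iso (EtCoh.stalk (ζ ≫ i)) _)

/-- The unit of a closed immersion is an epimorphism. -/
lemma epi_unit_closed (i : Z₁ ⟶ Z) [IsClosedImmersion i] (F : EtCoh.Ab Z) :
    Epi ((EtCoh.pullPushAdj i).unit.app F) := by
  rw [epi_iff_stalk]
  intro Ω _ _ ξ
  by_cases h : ξ (default : Spec (CommRingCat.of Ω)) ∈ Set.range i
  · obtain ⟨ζ, rfl⟩ := exists_lift_point i ξ h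
    rw [← AddCommGrpCat.epi_iff_surjective,
      show (EtCoh.stalk (ζ ≫ i)).map ((EtCoh.pullPushAdj i).unit.app F) =
        stalkPull i ζ F ≫ inv (pushStalk i ζ ((EtCoh.pull i).obj F)) by
          rw [IsIso.eq_comp_inv, unit_pushStalk]]
    infer_instance
  · have h2 := AddCommGrpCat.subsingleton_of_isZero (stalk_push_isZero i ((EtCoh.pull i).obj F) ξ h)
    exact fun b => ⟨0, @Subsingleton.elim _ h2 _ _⟩

lemma stalk_isZero_iff_pull (i : Z₂ ⟶ Z) (G : EtCoh.Ab Z) {Ω : Type u} [Field Ω]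
    [IsSepClosed Ω] (ζ : Spec (CommRingCat.of Ω) ⟶ Z₂) :
    IsZero ((EtCoh.stalk ζ).obj ((EtCoh.pull i).obj G)) ↔ IsZero ((EtCoh.stalk (ζ ≫ i)).obj G) :=
  ⟨fun h => h.of_iso (asIso (stalkPull i ζ G)), fun h => h.of_iso (asIso (stalkPull i ζ G)).symm⟩

/-- A class killed by two jointly surjective closed subschemes vanishes, if the cohomology of their
intersection vanishes one degree lower. -/
theorem eq_zero_of_two_closed (i₁ : Z₁ ⟶ Z) (i₂ : Z₂ ⟶ Z) [IsClosedImmersion i₁] [IsClosedImmersion i₂]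
    (hcov : Set.range i₁ ∪ Set.range i₂ = Set.univ)
    (a : W ⟶ Z₁) (b : W ⟶ Z₂) [IsClosedImmersion b] (sq : a ≫ i₁ = b ≫ i₂)
    (hb : i₂ ⁻¹' Set.range i₁ ⊆ Set.range b) (F : EtCoh.Ab Z) (q : ℕ)
    [PreservesFiniteLimits (EtCoh.pull i₁)] [PreservesFiniteLimits (EtCoh.pull i₂)]
    (hW : Subsingleton (EtCoh.H W ((EtCoh.pull (a ≫ i₁)).obj F) q))
    (ζ : EtCoh.H Z F (q + 1)) (h₁ : EtCore.Hpull i₁ F (q + 1) ζ = 0) (h₂ : EtCore.Hpull i₂ F (q + 1) ζ = 0) :
    ζ = 0 := by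
  let u₁ := (EtCoh.pullPushAdj i₁).unit.app F
  haveI := epi_unit_closed i₁ F
  let G := (EtCoh.push i₁).obj ((EtCoh.pull i₁).obj F)
  let S := ShortComplex.mk (kernel.ι u₁) u₁ (kernel.condition u₁)
  have hS : S.ShortExact := { exact := ShortComplex.exact_of_f_is_kernel _ (kernelIsKernel _) }
  have hu : ∀ {Y : Scheme.{u}} (i : Y ⟶ Z) [IsClosedImmersion i] [PreservesFiniteLimits (EtCoh.pull i)]
      (x : EtCoh.H Z F (q + 1)), EtCore.Hpull i F (q + 1) x = 0 →
      x.comp (Ext.mk₀ ((EtCoh.pullPushAdj i).unit.app F)) (add_zero (q + 1)) = 0 := by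
    intro Y i _ _ x hx
    refine (FieldH25.bijective_HofPush_integral i ((EtCoh.pull i).obj F) (q + 1)).1 ?_
    rw [map_zero, FieldH25.HofPush_unit, hx]
  obtain ⟨η, rfl⟩ := Ext.covariant_sequence_exact₂ _ hS ζ (hu i₁ ζ h₁)
  let L := EtCoh.pull i₂ ⋙ EtCoh.push i₂
  let u₂ := (EtCoh.pullPushAdj i₂).unit
  haveI : (EtCoh.pull i₂).Additive := (EtCoh.pullPushAdj i₂).left_adjoint_additive
  haveI : PreservesColimitsOfSize.{0, 0} (EtCoh.pull i₂) :=
    (EtCoh.pullPushAdj i₂).leftAdjoint_preservesColimits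
  haveI : PreservesLimitsOfSize.{0, 0} (EtCoh.push i₂) := (EtCoh.pullPushAdj i₂).rightAdjoint_preservesLimits
  haveI : L.Additive := inferInstance
  haveI : PreservesFiniteLimits L := comp_preservesFiniteLimits _ _
  haveI : PreservesFiniteColimits L := comp_preservesFiniteColimits _ _
  have hLS : (S.map L).ShortExact := hS.map_of_exact L
  -- the unit is an isomorphism on the kernel
  haveI : IsIso (u₂.app S.X₁) := by
    refine isIso_unit_integral i₂ _ ?_
    rintro z ⟨Ω, _, _, ξ, hξ, hne⟩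
    have hz : ξ default = z := Set.range_eq_singleton_iff.1 hξ default
    rcases (Set.eq_univ_iff_forall.1 hcov (ξ default)) with h | h
    · exact absurd (isZero_stalk_kernel_unit i₁ F ξ h) hne
    · exact hz ▸ h
  -- the kernel class dies in the quotient
  have h3 : ((η.comp (Ext.mk₀ (u₂.app S.X₁)) (add_zero (q + 1)))).comp (Ext.mk₀ (S.map L).f) (add_zero (q + 1)) = 0 := by
    rw [Ext.comp_assoc_of_third_deg_zero, Ext.mk₀_comp_mk₀]
    refine (congrArg (fun t => η.comp (Ext.mk₀ t) (add_zero (q + 1))) (u₂.naturality S.f).symm).trans ?_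
    rw [← Ext.mk₀_comp_mk₀, ← Ext.comp_assoc_of_third_deg_zero]
    exact hu i₂ _ h₂
  obtain ⟨θ, hθ⟩ := Ext.covariant_sequence_exact₁ _ hLS _ h3 (n₀ := q) rfl
  have hG : Subsingleton (EtCoh.H Z (L.obj G) q) := by
    refine @Function.Injective.subsingleton _ _ _ (FieldH25.bijective_HofPush_integral i₂ ((EtCoh.pull i₂).obj G) q).1 ?_
    let G' := (EtCoh.pull i₂).obj G
    haveI : IsIso ((EtCoh.pullPushAdj b).unit.app G') := by
      refine isIso_unit_integral b _ ?_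
      rintro z ⟨Ω, _, _, ξ, hξ, hne⟩
      have hz : ξ default = z := Set.range_eq_singleton_iff.1 hξ default
      refine hb ?_
      rw [← hz]
      exact mem_range_of_not_isZero i₁ ((EtCoh.pull i₁).obj F) (ξ ≫ i₂)
        (fun h0 => hne ((stalk_isZero_iff_pull i₂ G ξ).2 h0))
    let e : (EtCoh.pull b).obj G' ≅ (EtCoh.pull (a ≫ i₁)).obj F :=
      ((EtCore.pullComp b i₂).app G).symm ≪≫ (EtCore.pullCongr sq.symm).app G ≪≫
        (EtCore.pullComp a i₁).app G ≪≫
        (EtCoh.pull a).mapIso (asIso ((EtCoh.pullPushAdj i₁).counit.app ((EtCoh.pull i₁).obj F))) ≪≫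
        ((EtCore.pullComp a i₁).app F).symm
    haveI : Subsingleton (EtCoh.H W ((EtCoh.pull b).obj G') q) :=
      @Equiv.subsingleton _ _ ((EtCoh.HF W q).mapIso e).addCommGroupIsoToAddEquiv.toEquiv hW
    have h5 : Subsingleton (EtCoh.H Z₂ ((EtCoh.push b).obj ((EtCoh.pull b).obj G')) q) :=
      (FieldH25.bijective_HofPush_integral b _ q).1.subsingleton
    exact @Equiv.subsingleton _ _ ((EtCoh.HF Z₂ q).mapIso
      (asIso ((EtCoh.pullPushAdj b).unit.app G'))).addCommGroupIsoToAddEquiv.toEquiv h5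
  obtain rfl : θ = 0 := @Subsingleton.elim _ hG θ 0
  have hθ0 : (0 : EtCoh.H Z (L.obj S.X₁) (q + 1)) = η.comp (Ext.mk₀ (u₂.app S.X₁)) (add_zero (q + 1)) :=
    (Ext.zero_comp _ _ _ _ _).symm.trans hθ
  have h4 : η = 0 := FieldH25.eq_zero_of_comp_iso η (asIso (u₂.app S.X₁)) hθ0.symm
  rw [h4, Ext.zero_comp]

end Groth.Agent.Gabber24
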