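import Groth.Agent.Lib.Gabber24.MV
import Groth.Agent.Lib.NormSep24.Closed
import Groth.Agent.Lib.NormSep24.Vanish
import Groth.Agent.S0092
import Groth.Agent.S0646
import Mathlib.RingTheory.Ideal.Quotient.Operations

/-!
# Constant coefficients on closed subschemes of normal affine schemes with separably closed function field
-/

set_option autoImplicit false
set_option linter.style.haveILetI false
set_option backward.isDefEq.respectTransparency.types false

universe u

open CategoryTheory CategoryTheory.Limits AlgebraicGeometry Opposite CategoryTheory.Abelian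

namespace Groth.Agent.Gabber24

variable {X : Scheme.{u}} [IsAffine X] [IsIntegral X]

theorem zl_closed (hX : NormSep24.Base X) {Z : Scheme.{u}} (i : Z ⟶ X) [IsClosedImmersion i] :
    NormSep24.ZL Z := fun U u => by
  obtain ⟨V, hV, huV, -⟩ := exists_isAffineOpen_mem_and_subset (x := u) (U := (⊤ : U.left.Opens)) (TopologicalSpace.Opens.mem_top _)
  haveI : IsAffine (V : Scheme.{u}) := hV
  haveI : Etale U.hom := U.prop
  obtain ⟨κ, _, W, e, he⟩ := NormSep24.exists_coprod_iso_closed hX i (V.ι ≫ U.hom)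
  obtain ⟨k, y, hy⟩ := (sigmaOpenCover fun t => (W t : Scheme.{u})).exists_eq (e.inv (⟨u, huV⟩ : V))
  let h : (W k : Scheme.{u}) ⟶ U.left := (Sigma.ι (fun t => (W t : Scheme.{u})) k ≫ e.hom) ≫ V.ι
  have hh : h ≫ U.hom = (W k).ι := by
    refine (Category.assoc _ _ _).trans ((Category.assoc _ _ _).trans ?_)
    exact he k
  refine ⟨h.opensRange, ⟨y, ?_⟩, ?_⟩
  · show (V.ι ((Sigma.ι (fun t => (W t : Scheme.{u})) k ≫ e.hom) y)) = u
    rw [Scheme.Hom.comp_apply]
    erw [hy]
    rw [← Scheme.Hom.comp_apply e.inv e.hom, e.inv_hom_id]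
    rfl
  · have : h.opensRange.ι ≫ U.hom = h.isoOpensRange.inv ≫ (W k).ι := by
      rw [← hh, ← Category.assoc h.isoOpensRange.inv, Scheme.Hom.isoOpensRange_inv_comp]
    rw [this]
    infer_instance

/-- The system of quotients by a chain of ideals. -/
@[simps]
def quotDiag {A : Type u} [CommRing A] (c : Set (Ideal A)) : ↥c ⥤ CommRingCat.{u} where
  obj J := CommRingCat.of (A ⧸ J.1)
  map {J K} h := CommRingCat.ofHom (Ideal.Quotient.factor h.le)
  map_id J := by ext a; rfl
  map_comp f g := by ext a; rfl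

/-- Its cocone. -/
def quotCocone {A : Type u} [CommRing A] (c : Set (Ideal A)) : Cocone (quotDiag c) where
  pt := CommRingCat.of (A ⧸ sSup c)
  ι :=
    { app := fun J => CommRingCat.ofHom (Ideal.Quotient.factor (le_sSup J.2))
      naturality := fun J K f => by
        ext a; obtain ⟨a, rfl⟩ := Ideal.Quotient.mk_surjective a; rfl }

/-- The quotient by the supremum of a chain is the colimit of the quotients. -/
theorem nonempty_isColimit {A : Type u} [CommRing A] (c : Set (Ideal A)) (hc : IsChain (· ≤ ·) c)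
    (hne : c.Nonempty) : Nonempty (IsColimit (quotCocone c)) := by
  obtain ⟨J₀, hJ₀⟩ := hne
  let m : ∀ (s : Cocone (quotDiag c)) (J : ↥c), A →+* s.pt := fun s J =>
    (s.ι.app J).hom.comp (Ideal.Quotient.mk J.1)
  have hm : ∀ (s : Cocone (quotDiag c)) (J K : ↥c), m s J = m s K := by
    intro s J K
    rcases hc.total J.2 K.2 with h | h
    · have := s.w (homOfLE (show J ≤ K from h))
      ext a
      exact (ConcreteCategory.congr_hom this (Ideal.Quotient.mk J.1 a)).symm
    · have := s.w (homOfLE (show K ≤ J from h))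
      ext a
      exact (ConcreteCategory.congr_hom this (Ideal.Quotient.mk K.1 a))
  have hker : ∀ (s : Cocone (quotDiag c)), sSup c ≤ RingHom.ker (m s ⟨J₀, hJ₀⟩) := fun s =>
    sSup_le fun J hJ => fun a ha => by
      rw [RingHom.mem_ker, hm s ⟨J₀, hJ₀⟩ ⟨J, hJ⟩]
      show (s.ι.app ⟨J, hJ⟩).hom (Ideal.Quotient.mk J a) = 0
      rw [Ideal.Quotient.eq_zero_iff_mem.2 ha]
      exact map_zero _
  exact ⟨{
    desc := fun s => CommRingCat.ofHom (Ideal.Quotient.lift (sSup c) (m s ⟨J₀, hJ₀⟩) fun a ha => hker s ha)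
    fac := fun s J => by
      ext a
      obtain ⟨a, rfl⟩ := Ideal.Quotient.mk_surjective a
      exact RingHom.congr_fun (hm s ⟨J₀, hJ₀⟩ J) a
    uniq := fun s g hg => by
      ext a
      obtain ⟨a, rfl⟩ := Ideal.Quotient.mk_surjective a
      exact ConcreteCategory.congr_hom (hg ⟨J₀, hJ₀⟩) (Ideal.Quotient.mk J₀ a) }⟩

/-- The closed subscheme of an ideal. -/
noncomputable abbrev cl {A : Type u} [CommRing A] (J : Ideal A) :
    Spec (CommRingCat.of (A ⧸ J)) ⟶ Spec (CommRingCat.of A) :=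
  Spec.map (CommRingCat.ofHom (Ideal.Quotient.mk J))

theorem isClosedImmersion_cl {A : Type u} [CommRing A] (J : Ideal A) : IsClosedImmersion (cl J) :=
  IsClosedImmersion.spec_of_surjective _ Ideal.Quotient.mk_surjective

theorem range_cl {A : Type u} [CommRing A] (J : Ideal A) :
    Set.range (cl J) = PrimeSpectrum.zeroLocus (J : Set A) := by
  refine (range_comap_of_surjective _ _ Ideal.Quotient.mk_surjective).trans ?_
  rw [Ideal.mk_ker]

theorem cl_factor {A : Type u} [CommRing A] {J K : Ideal A} (h : J ≤ K) :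
    Spec.map (CommRingCat.ofHom (Ideal.Quotient.factor h)) ≫ cl J = cl K := by
  rw [← Spec.map_comp, ← CommRingCat.ofHom_comp]
  rfl

/-- Vanishing along a chain of ideals descends. -/
theorem exists_mem_chain {A : Type u} [CommRing A] (c : Set (Ideal A)) (hc : IsChain (· ≤ ·) c)
    (hbot : ⊥ ∈ c) (F : EtCoh.Ab (Spec (CommRingCat.of A))) (p : ℕ) (ζ : EtCoh.H _ F p)
    [∀ J : Ideal A, PreservesFiniteLimits (EtCoh.pull (cl J))]
    (h : EtCore.Hpull (cl (sSup c)) F p ζ = 0) : ∃ J ∈ c, EtCore.Hpull (cl J) F p ζ = 0 := by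
  haveI : IsDirected ↥c (· ≤ ·) := ⟨fun J K => (hc.total J.2 K.2).elim (fun h => ⟨K, h, le_rfl⟩)
    fun h => ⟨J, le_rfl, h⟩⟩
  obtain ⟨hcol⟩ := nonempty_isColimit c hc ⟨⊥, hbot⟩
  let Xs : (↥c)ᵒᵖ ⥤ Scheme.{u} := (quotDiag c).op ⋙ Scheme.Spec
  let C : Cone Xs := Scheme.Spec.mapCone (quotCocone c).op
  let hC : IsLimit C := isLimitOfPreserves Scheme.Spec hcol.op
  haveI : ∀ a, IsAffine (Xs.obj a) := fun a => inferInstanceAs (IsAffine (Spec _))
  haveI : ∀ a, PreservesFiniteLimits (EtCoh.pull (C.π.app a)) := fun a => EtStalk.preservesFiniteLimits_pull _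
  haveI : ∀ ⦃a b : (↥c)ᵒᵖ⦄ (h : a ⟶ b), PreservesFiniteLimits (EtCoh.pull (Xs.map h)) :=
    fun a b h => EtStalk.preservesFiniteLimits_pull _
  let i₀ : ↥c := ⟨⊥, hbot⟩
  let t := Xs.map (homOfLE (le_refl i₀)).op
  let ζ₀ := EtCore.Hpull (cl (⊥ : Ideal A)) F p ζ
  obtain ⟨k, hk, hk0⟩ := (S0646.result Xs (fun a b h => inferInstance) (fun a => inferInstance)
    (fun a => inferInstance) C hC i₀ ((EtCoh.pull (cl (⊥ : Ideal A))).obj F) p).2 i₀ le_rfl
    (EtCore.Hpull t _ p ζ₀) (by
      have h1 : EtCore.Hpull (C.π.app (op i₀)) _ p ζ₀ = 0 :=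
        (LocAcycBC6.Hpull_comp_eq_zero_iff (C.π.app (op i₀)) (cl (⊥ : Ideal A)) (cl (sSup c))
          (cl_factor _) F p ζ).1 h
      have h2 := (LocAcycBC6.Hpull_comp_eq_zero_iff (C.π.app (op i₀)) t (C.π.app (op i₀))
        (C.w (homOfLE (le_refl i₀)).op) _ p ζ₀).1 h1
      show (ConcreteCategory.hom ((EtCoh.HF _ p).map _)) _ = 0
      exact (congrArg _ h2).trans (map_zero _))
  refine ⟨k.1, k.2, ?_⟩
  haveI := EtStalk.preservesFiniteLimits_pull (Xs.map (homOfLE hk).op ≫ t)
  have h3 := (LocAcycBC6.Hpull_comp_eq_zero_iff (Xs.map (homOfLE hk).op) t _ rfl _ p ζ₀).2 hk0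
  exact (LocAcycBC6.Hpull_comp_eq_zero_iff (Xs.map (homOfLE hk).op ≫ t) (cl (⊥ : Ideal A)) (cl k.1)
    (by
      have e : Xs.map (homOfLE hk).op ≫ t = Xs.map (homOfLE hk).op := by
        rw [← Xs.map_comp]; rfl
      rw [e]
      exact cl_factor _) F p ζ).2 h3

variable (hN : ∀ x : X, IsIntegrallyClosed (X.presheaf.stalk x)) [IsSepClosed X.functionField]
  (M : Type) [AddCommGroup M] [Finite M]
include hN

/-- Constant finite coefficients are acyclic on every closed subscheme. -/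
theorem subsingleton_H : ∀ (q : ℕ) {Z : Scheme.{u}} (i : Z ⟶ X) [IsClosedImmersion i],
    Subsingleton (EtCoh.H Z (EtCoh.const Z M) (q + 1))
  | 0, Z, i, _ => S0092.result hN i M
  | q + 1, Z, i, _ => by
    classical
    haveI : IsAffine Z := isAffine_of_isAffineHom i
    let A : Type u := Γ(Z, ⊤)
    let e : Spec (CommRingCat.of A) ≅ Z := Z.isoSpec.symm
    haveI hp : ∀ {B : Scheme.{u}} (f : B ⟶ Z), PreservesFiniteLimits (EtCoh.pull f) :=
      fun f => EtStalk.preservesFiniteLimits_pull f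
    suffices H : ∀ ζ : EtCoh.H (Spec (CommRingCat.of A)) (EtCoh.const _ M) (q + 1 + 1), ζ = 0 by
      refine subsingleton_of_forall_eq 0 fun z => ?_
      refine (LocAcyc24.bijective_Hpull_of_isIso e.hom _ _).1 (Eq.trans ?_ (map_zero _).symm)
      exact FieldH25.eq_zero_of_comp_iso _ (EtCore.pullConst e.hom M) (H _)
    intro ζ
    by_contra hζ
    haveI : ∀ J : Ideal A, PreservesFiniteLimits (EtCoh.pull (cl J)) := fun J => EtStalk.preservesFiniteLimits_pull _
    let P : Set (Ideal A) := {J | EtCore.Hpull (cl J) _ _ ζ ≠ 0}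
    have hPbot : (⊥ : Ideal A) ∈ P := fun h => hζ (by
      haveI : IsIso (CommRingCat.ofHom (Ideal.Quotient.mk (⊥ : Ideal A))) :=
        (ConcreteCategory.isIso_iff_bijective _).2 ⟨(RingHom.injective_iff_ker_eq_bot _).2
          Ideal.mk_ker, Ideal.Quotient.mk_surjective⟩
      exact (LocAcyc24.bijective_Hpull_of_isIso (cl (⊥ : Ideal A)) _ _).1 (h.trans (map_zero _).symm))
    obtain ⟨J, hJ⟩ := zorn_le₀ P (fun c hcP hc => by
      refine ⟨sSup (insert ⊥ c), fun h0 => ?_, fun J hJ => le_sSup (Set.mem_insert_of_mem _ hJ)⟩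
      obtain ⟨J, hJ, hJ0⟩ := exists_mem_chain (insert ⊥ c) (hc.insert fun b _ _ => Or.inl bot_le)
        (Set.mem_insert _ _) _ _ ζ h0
      rcases hJ with rfl | hJ
      · exact hPbot hJ0
      · exact hcP hJ hJ0)
    have hJP : EtCore.Hpull (cl J) _ _ ζ ≠ 0 := hJ.prop
    have hmax : ∀ K, J < K → EtCore.Hpull (cl K) _ _ ζ = 0 := fun K hK => by
      by_contra hne
      exact hK.not_ge (hJ.2 hne hK.le)
    haveI := isClosedImmersion_cl J
    let iJ : Spec (CommRingCat.of (A ⧸ J)) ⟶ X := cl J ≫ e.hom ≫ i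
    by_cases hJt : J = ⊤
    · subst hJt
      haveI : Subsingleton (A ⧸ (⊤ : Ideal A)) := Ideal.Quotient.subsingleton_iff.2 rfl
      haveI : IsEmpty (Spec (CommRingCat.of (A ⧸ (⊤ : Ideal A)))) := inferInstanceAs (IsEmpty (PrimeSpectrum _))
      have hz : ∀ G : EtCoh.Ab (Spec (CommRingCat.of (A ⧸ (⊤ : Ideal A)))), IsZero G := fun G =>
        (EtStalk.isZero_iff_stalk G).2 fun Ω _ _ ξ => isEmptyElim (ξ default)
      haveI := (hz ((EtCoh.pull (cl (⊤ : Ideal A))).obj (EtCoh.const _ M))).injective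
      exact hJP (Ext.eq_zero_of_injective _)
    by_cases hpr : J.IsPrime
    · haveI := hpr
      haveI : IsIntegral (Spec (CommRingCat.of (A ⧸ J))) := inferInstance
      have hzl := zl_closed ⟨hN, inferInstance⟩ iJ
      haveI := NormSep24.subsingleton_H_of_flasque hzl (q + 1) _ (NormSep24.flasque_const hzl M)
      exact hJP (FieldH25.eq_zero_of_comp_iso _ (EtCore.pullConst (cl J) M) (Subsingleton.elim _ _))
    obtain ⟨a, ha, b, hb, hab⟩ : ∃ a, a ∉ J ∧ ∃ b, b ∉ J ∧ a * b ∈ J := by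
      by_contra hne
      push Not at hne
      exact hpr ⟨hJt, fun {x y} hxy => or_iff_not_imp_left.2 fun hx => by
        by_contra hy
        exact hne x hx y hy hxy⟩
    let J₁ := J ⊔ Ideal.span {a}
    let J₂ := J ⊔ Ideal.span {b}
    have hlt : ∀ x, x ∉ J → J < J ⊔ Ideal.span {x} := fun x hx =>
      lt_of_le_not_ge le_sup_left fun h => hx (h (Ideal.mem_sup_right (Ideal.mem_span_singleton_self x)))
    let i₁ := Spec.map (CommRingCat.ofHom (Ideal.Quotient.factor (le_sup_left : J ≤ J₁)))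
    let i₂ := Spec.map (CommRingCat.ofHom (Ideal.Quotient.factor (le_sup_left : J ≤ J₂)))
    haveI : IsClosedImmersion i₁ := IsClosedImmersion.spec_of_surjective _ (Ideal.Quotient.factor_surjective le_sup_left)
    haveI : IsClosedImmersion i₂ := IsClosedImmersion.spec_of_surjective _ (Ideal.Quotient.factor_surjective le_sup_left)
    haveI := EtStalk.preservesFiniteLimits_pull i₁
    haveI := EtStalk.preservesFiniteLimits_pull i₂
    refine hJP (eq_zero_of_two_closed i₁ i₂ ?_ (pullback.fst i₁ i₂) (pullback.snd i₁ i₂) pullback.condition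
      ?_ _ (q + 1) ?_ _
      ((LocAcycBC6.Hpull_comp_eq_zero_iff i₁ (cl J) (cl J₁) (cl_factor _) _ _ ζ).1 (hmax _ (hlt a ha)))
      ((LocAcycBC6.Hpull_comp_eq_zero_iff i₂ (cl J) (cl J₂) (cl_factor _) _ _ ζ).1 (hmax _ (hlt b hb))))
    · refine Set.eq_univ_of_forall fun z => ?_
      have hz : J ≤ (cl J z).asIdeal := (range_cl J).subset ⟨z, rfl⟩
      have hm : ∀ x, x ∈ (cl J z).asIdeal → ∀ (h : J ≤ J ⊔ Ideal.span {x}),
          z ∈ Set.range (Spec.map (CommRingCat.ofHom (Ideal.Quotient.factor h))) := fun x hx h => by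
        have hmem : cl J z ∈ Set.range (cl (J ⊔ Ideal.span {x})) := by
          rw [range_cl]
          exact sup_le hz (Ideal.span_le.2 (Set.singleton_subset_iff.2 hx))
        obtain ⟨w, hw⟩ := hmem
        refine ⟨w, (cl J).isClosedEmbedding.injective ?_⟩
        rw [← Scheme.Hom.comp_apply, cl_factor]
        exact hw
      exact ((cl J z).isPrime.mem_or_mem (hz hab)).imp (fun h => hm a h _) (fun h => hm b h _)
    · rintro z ⟨w, hw⟩
      obtain ⟨y, -, hy⟩ := Scheme.Pullback.exists_preimage_pullback (f := i₁) (g := i₂) w z hw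
      exact ⟨y, hy⟩
    · have hIH := subsingleton_H q (pullback.fst i₁ i₂ ≫ i₁ ≫ iJ)
      exact @Equiv.subsingleton _ _ ((EtCoh.HF _ (q + 1)).mapIso
        ((EtCoh.pull (pullback.fst i₁ i₂ ≫ i₁)).mapIso (EtCore.pullConst (cl J) M) ≪≫
          EtCore.pullConst (pullback.fst i₁ i₂ ≫ i₁) M)).addCommGroupIsoToAddEquiv.toEquiv hIH

end Groth.Agent.Gabber24
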