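import Groth.Agent.Lib.Gabber24.Matches
import Groth.Agent.Lib.Gabber24.Conn
import Mathlib.AlgebraicGeometry.Morphisms.Finite
import Mathlib.AlgebraicGeometry.Morphisms.Proper

/-!
# Sections given on Zariski pieces of a finite surjective scheme
-/

universe u

open CategoryTheory CategoryTheory.Limits AlgebraicGeometry Opposite

set_option backward.isDefEq.respectTransparency.types false

namespace Groth.Agent.Gabber24

open Groth.Agent.EtStalk

variable {X X' Z : Scheme.{u}} (i : Z ⟶ X) (π : X' ⟶ X) (F : EtCoh.Ab X)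

/-- Sections of `F` on pieces of `X'` which go to etale schemes over `X`. -/
structure Piece where
  opn : X'.Opens
  obj : X.Etale
  map : (opn : Scheme.{u}) ⟶ obj.left
  comm : map ≫ obj.hom = opn.ι ≫ π
  sec : F.obj.obj (op obj)

variable {π F}

lemma val_congr' {Ω : Type u} [Field Ω] [IsSepClosed Ω] (F : EtCoh.Ab X)
    {ξ ξ' : Spec (CommRingCat.of Ω) ⟶ X} (e : ξ = ξ')
    {V V' : X.Etale} {a a' : Spec (CommRingCat.of Ω) ⟶ V.left} {b b' : Spec (CommRingCat.of Ω) ⟶ V'.left}
    (ea : a = a') (eb : b = b')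
    {ha : a ≫ V.hom = ξ} {hb : b ≫ V'.hom = ξ} {ha' : a' ≫ V.hom = ξ'} {hb' : b' ≫ V'.hom = ξ'}
    {s : F.obj.obj (op V)} {s' : F.obj.obj (op V')} :
    val F ξ a ha s = val F ξ b hb s' ↔ val F ξ' a' ha' s = val F ξ' b' hb' s' := by
  subst e; subst ea; subst eb
  rfl

variable {κ : Type u} (P : κ → Piece π F)

lemma Piece.comm' (p : Piece π F) {S : Scheme.{u}} (a : S ⟶ p.opn) :
    (a ≫ p.map) ≫ p.obj.hom = (a ≫ p.opn.ι) ≫ π := by
  rw [Category.assoc, p.comm, Category.assoc]

/-- The values of two pieces agree at lifts of the same geometric point of `X'`. -/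
def AgreeAbove : Prop :=
  ∀ (k l : κ) (Ω : Type u) [Field Ω] [IsSepClosed Ω] (ξ : Spec (CommRingCat.of Ω) ⟶ X)
    (a : Spec (CommRingCat.of Ω) ⟶ (P k).opn) (b : Spec (CommRingCat.of Ω) ⟶ (P l).opn)
    (_ : a ≫ (P k).opn.ι = b ≫ (P l).opn.ι)
    (ha : (a ≫ (P k).map) ≫ (P k).obj.hom = ξ) (hb : (b ≫ (P l).map) ≫ (P l).obj.hom = ξ),
    val F ξ (a ≫ (P k).map) ha (P k).sec = val F ξ (b ≫ (P l).map) hb (P l).sec

/-- The values of two pieces agree at lifts of the same geometric point of `X`. -/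
def AgreeBelow : Prop :=
  ∀ (k l : κ) (Ω : Type u) [Field Ω] [IsSepClosed Ω] (ξ : Spec (CommRingCat.of Ω) ⟶ X)
    (a : Spec (CommRingCat.of Ω) ⟶ (P k).opn) (b : Spec (CommRingCat.of Ω) ⟶ (P l).opn)
    (ha : (a ≫ (P k).map) ≫ (P k).obj.hom = ξ) (hb : (b ≫ (P l).map) ≫ (P l).obj.hom = ξ),
    val F ξ (a ≫ (P k).map) ha (P k).sec = val F ξ (b ≫ (P l).map) hb (P l).sec

variable (σ : ((EtCoh.pull i).obj F).obj.obj (op ((EtCoh.bc i).obj (EtCoh.top X))))

/-- All pieces have the germs of `σ` above `Z`. -/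
def AllMatch : Prop := ∀ k, Matches i F σ (P k).sec

/-- A piece restricted to a smaller open. -/
noncomputable def Piece.restrict (p : Piece π F) (V : X'.Opens) (h : V ≤ p.opn) : Piece π F where
  opn := V
  obj := p.obj
  map := X'.homOfLE h ≫ p.map
  comm := by rw [Category.assoc, p.comm, Scheme.homOfLE_ι_assoc]
  sec := p.sec

/-- Where two pieces agree. -/
noncomputable def agreeSet (k l : κ) : Set X' :=
  ((P k).opn ⊓ (P l).opn).ι '' same F
    (a := X'.homOfLE (inf_le_left : (P k).opn ⊓ (P l).opn ≤ (P k).opn) ≫ (P k).map)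
    (b := X'.homOfLE (inf_le_right : (P k).opn ⊓ (P l).opn ≤ (P l).opn) ≫ (P l).map)
    (q := ((P k).opn ⊓ (P l).opn).ι ≫ π)
    (((P k).comm' _).trans (by rw [Scheme.homOfLE_ι]))
    (((P l).comm' _).trans (by rw [Scheme.homOfLE_ι]))
    (P k).sec (P l).sec

lemma isOpen_agreeSet (k l : κ) : IsOpen (agreeSet P k l) :=
  ((P k).opn ⊓ (P l).opn).ι.isOpenEmbedding.isOpenMap _ (isOpen_same _ _ _ _ _)

lemma mem_agreeSet_iff (k l : κ) {Ω : Type u} [Field Ω] [IsSepClosed Ω] (ξ : Spec (CommRingCat.of Ω) ⟶ X)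
    (a : Spec (CommRingCat.of Ω) ⟶ (P k).opn) (b : Spec (CommRingCat.of Ω) ⟶ (P l).opn)
    (e : a ≫ (P k).opn.ι = b ≫ (P l).opn.ι)
    (ha : (a ≫ (P k).map) ≫ (P k).obj.hom = ξ) (hb : (b ≫ (P l).map) ≫ (P l).obj.hom = ξ) :
    (P k).opn.ι (a default) ∈ agreeSet P k l ↔
      val F ξ (a ≫ (P k).map) ha (P k).sec = val F ξ (b ≫ (P l).map) hb (P l).sec := by
  let D := (P k).opn ⊓ (P l).opn
  let c : Spec (CommRingCat.of Ω) ⟶ D := IsOpenImmersion.lift D.ι (a ≫ (P k).opn.ι) (by
    rw [Scheme.Opens.range_ι]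
    rintro _ ⟨y, rfl⟩
    refine ⟨?_, ?_⟩
    · rw [Scheme.Hom.comp_apply]; exact (a y).2
    · rw [e, Scheme.Hom.comp_apply]; exact (b y).2)
  have hc : c ≫ D.ι = a ≫ (P k).opn.ι := IsOpenImmersion.lift_fac _ _ _
  have ea : c ≫ X'.homOfLE (inf_le_left : D ≤ (P k).opn) = a := by
    rw [← cancel_mono (P k).opn.ι, Category.assoc, Scheme.homOfLE_ι, hc]
  have eb : c ≫ X'.homOfLE (inf_le_right : D ≤ (P l).opn) = b := by
    rw [← cancel_mono (P l).opn.ι, Category.assoc, Scheme.homOfLE_ι, hc, e]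
  have hpt : (P k).opn.ι (a default) = D.ι (c default) := by
    rw [← Scheme.Hom.comp_apply, ← Scheme.Hom.comp_apply, hc]
  rw [hpt, agreeSet, D.ι.isOpenEmbedding.injective.mem_set_image, mem_same_iff]
  have hq : c ≫ D.ι ≫ π = ξ := by
    refine Eq.trans ?_ ha
    rw [(P k).comm', ← Category.assoc, hc]
  exact val_congr' F hq (by rw [← Category.assoc, ea]) (by rw [← Category.assoc, eb])

/-- The canonical geometric point at a point of an open subscheme. -/
noncomputable def liftPt (W : X'.Opens) (x : X') (hx : x ∈ W) :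
    Spec (CommRingCat.of (SeparableClosure (X'.residueField x))) ⟶ W :=
  IsOpenImmersion.lift W.ι (geomPt X' x) (by
    rintro _ ⟨y, rfl⟩
    rw [Scheme.Opens.range_ι, Subsingleton.elim y default, geomPt_default]
    exact hx)

lemma liftPt_ι (W : X'.Opens) (x : X') (hx : x ∈ W) : liftPt W x hx ≫ W.ι = geomPt X' x :=
  IsOpenImmersion.lift_fac _ _ _

lemma liftPt_apply (W : X'.Opens) (x : X') (hx : x ∈ W) : W.ι (liftPt W x hx default) = x := by
  rw [← Scheme.Hom.comp_apply, liftPt_ι, geomPt_default]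

lemma mem_agreeSet_iff_geomPt (k l : κ) (x : X') (hk : x ∈ (P k).opn) (hl : x ∈ (P l).opn) :
    x ∈ agreeSet P k l ↔
      val F (geomPt X' x ≫ π) (liftPt _ x hk ≫ (P k).map) (((P k).comm' _).trans (by rw [liftPt_ι])) (P k).sec =
      val F (geomPt X' x ≫ π) (liftPt _ x hl ≫ (P l).map) (((P l).comm' _).trans (by rw [liftPt_ι])) (P l).sec := by
  rw [← mem_agreeSet_iff P k l _ _ _ ((liftPt_ι _ x hk).trans (liftPt_ι _ x hl).symm), liftPt_apply]

lemma AllMatch.mem_agreeSet (h : AllMatch i P σ) (k l : κ) (x : X') (hk : x ∈ (P k).opn)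
    (hl : x ∈ (P l).opn) (hx : π x ∈ Set.range i) : x ∈ agreeSet P k l := by
  obtain ⟨z, hz⟩ := hx
  let D := (P k).opn ⊓ (P l).opn
  obtain ⟨p, hp, -⟩ := Scheme.Pullback.exists_preimage_pullback (f := D.ι ≫ π) (g := i) ⟨x, hk, hl⟩ z
    ((Scheme.Hom.comp_apply _ _ _).trans hz.symm)
  let c := geomPt _ p ≫ pullback.fst (D.ι ≫ π) i
  let a := c ≫ X'.homOfLE (inf_le_left : D ≤ (P k).opn)
  let b := c ≫ X'.homOfLE (inf_le_right : D ≤ (P l).opn)
  let ζ := geomPt _ p ≫ pullback.snd (D.ι ≫ π) i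
  have e : a ≫ (P k).opn.ι = b ≫ (P l).opn.ι := by
    simp only [a, b, Category.assoc, Scheme.homOfLE_ι]
  have hζ : c ≫ D.ι ≫ π = ζ ≫ i := by
    simp only [c, ζ, Category.assoc, pullback.condition]
  have ha : (a ≫ (P k).map) ≫ (P k).obj.hom = ζ ≫ i := by
    rw [(P k).comm', ← hζ]; simp only [a, Category.assoc, Scheme.homOfLE_ι_assoc]
  have hb : (b ≫ (P l).map) ≫ (P l).obj.hom = ζ ≫ i := by
    rw [(P l).comm', ← hζ]; simp only [b, Category.assoc, Scheme.homOfLE_ι_assoc]
  have := (mem_agreeSet_iff P k l _ a b e ha hb).2 ((h k _ ζ _ ha).trans (h l _ ζ _ hb).symm)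
  have hpt : (P k).opn.ι (a default) = x := by
    rw [← Scheme.Hom.comp_apply]
    simp only [a, c, Category.assoc, Scheme.homOfLE_ι]
    rw [Scheme.Hom.comp_apply, Scheme.Hom.comp_apply, geomPt_default, hp]
    rfl
  rwa [hpt] at this

/-- Shrinking the pieces makes them agree above. -/
theorem exists_agreeAbove [CompactSpace X'] [QuasiSeparatedSpace X'] (hi : IsClosed (Set.range i))
    (hsec : SecEq X'.carrier (π ⁻¹' Set.range i))
    (hc : ∀ k, IsCompact ((P k).opn : Set X')) (hcov : ∀ x, ∃ k, x ∈ (P k).opn)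
    (hm : AllMatch i P σ) :
    ∃ Q : κ → Piece π F, AllMatch i Q σ ∧ (∀ x, ∃ k, x ∈ (Q k).opn) ∧ AgreeAbove Q := by
  have hZ : IsClosed (π ⁻¹' Set.range i) := hi.preimage π.continuous
  haveI : SpectralSpace X'.carrier := {}
  obtain ⟨V₀, hVU, hV, hVE⟩ := exists_shrink (X := X'.carrier) hZ (hsec.isConnected hZ)
    (fun k => (P k).opn) hc (fun z _ => hcov z) (agreeSet P) (isOpen_agreeSet P)
    (fun k l x hk hl h => by
      rw [mem_agreeSet_iff_geomPt P l k x hl hk]
      exact ((mem_agreeSet_iff_geomPt P k l x hk hl).1 h).symm)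
    (fun k l m x hk hl hm' h h' => by
      rw [mem_agreeSet_iff_geomPt P k m x hk hm']
      exact ((mem_agreeSet_iff_geomPt P k l x hk hl).1 h).trans
        ((mem_agreeSet_iff_geomPt P l m x hl hm').1 h'))
    (fun k l z hz hk hl => hm.mem_agreeSet i P σ k l z hk hl hz)
  let V : κ → X'.Opens := fun k => V₀ k
  refine ⟨fun k => (P k).restrict (V k) (hVU k), fun k => hm k, hV, ?_⟩
  intro k l Ω _ _ ξ a b e ha hb
  let a' := a ≫ X'.homOfLE (hVU k)
  let b' := b ≫ X'.homOfLE (hVU l)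
  have e' : a' ≫ (P k).opn.ι = b' ≫ (P l).opn.ι := by
    simp only [a', b', Category.assoc, Scheme.homOfLE_ι]
    exact e
  have hxl : (V k).ι (a default) = (V l).ι (b default) :=
    ((Scheme.Hom.comp_apply a (V k).ι default).symm.trans (congrArg (fun f => f.base default) e)).trans
      (Scheme.Hom.comp_apply b (V l).ι default)
  have hmem : (P k).opn.ι (a' default) ∈ agreeSet P k l := by
    rw [← Scheme.Hom.comp_apply]
    simp only [a', Category.assoc, Scheme.homOfLE_ι]
    rw [Scheme.Hom.comp_apply]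
    exact hVE k l _ (a default).2 (hxl ▸ (b default).2)
  have ha' : (a' ≫ (P k).map) ≫ (P k).obj.hom = ξ := by
    simpa only [a', Piece.restrict, Category.assoc] using ha
  have hb' : (b' ≫ (P l).map) ≫ (P l).obj.hom = ξ := by
    simpa only [b', Piece.restrict, Category.assoc] using hb
  have h3 := (mem_agreeSet_iff P k l ξ a' b' e' ha' hb').1 hmem
  simpa only [a', b', Piece.restrict, Category.assoc] using h3

/-- The open part of `X' ×_X X'` where two pieces both are defined. -/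
noncomputable abbrev pairScheme (k l : κ) : Scheme.{u} :=
  pullback ((P k).opn.ι ≫ π) ((P l).opn.ι ≫ π)

noncomputable def pairMap (k l : κ) : pairScheme P k l ⟶ pullback π π :=
  pullback.map _ _ _ _ (P k).opn.ι (P l).opn.ι (𝟙 X) (by simp) (by simp)

instance isOpenImmersion_pairMap (k l : κ) : IsOpenImmersion (pairMap P k l) := by
  unfold pairMap; infer_instance

/-- Where two pieces agree on `X' ×_X X'`. -/
noncomputable def pairSet (k l : κ) : Set (pairScheme P k l) :=
  same F (a := pullback.fst _ _ ≫ (P k).map) (b := pullback.snd _ _ ≫ (P l).map)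
    (q := pullback.fst ((P k).opn.ι ≫ π) ((P l).opn.ι ≫ π) ≫ (P k).opn.ι ≫ π)
    (((P k).comm' _).trans (Category.assoc _ _ _))
    ((((P l).comm' _).trans (Category.assoc _ _ _)).trans pullback.condition.symm)
    (P k).sec (P l).sec

/-- Pieces agreeing above agree below when `X' ×_X X'` has the sections of its part over `Z`. -/
theorem AgreeAbove.agreeBelow (hi : AllMatch i P σ) (hA : AgreeAbove P) (hcov : ∀ x, ∃ k, x ∈ (P k).opn)
    (hsec : SecEq (pullback π π).carrier ((pullback.fst π π ≫ π) ⁻¹' Set.range i)) :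
    AgreeBelow P := by
  have hpair : ∀ x : (pullback π π : Scheme.{u}), ∃ (k l : κ) (o : pairScheme P k l), pairMap P k l o = x := by
    intro x
    obtain ⟨k, hk⟩ := hcov (pullback.fst π π x)
    obtain ⟨l, hl⟩ := hcov (pullback.snd π π x)
    refine ⟨k, l, ?_⟩
    have : x ∈ Set.range (pairMap P k l) := by
      rw [pairMap, Scheme.Pullback.range_map, Scheme.Opens.range_ι, Scheme.Opens.range_ι]
      exact ⟨hk, hl⟩
    exact this
  let G : Set (pullback π π : Scheme.{u}) := ⋃ (k : κ) (l : κ), pairMap P k l '' pairSet P k l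
  have hG : IsOpen G := isOpen_iUnion fun k => isOpen_iUnion fun l =>
    (pairMap P k l).isOpenEmbedding.isOpenMap _ (isOpen_same _ _ _ _ _)
  have hall : G = Set.univ := hsec.eq_univ hG fun x hx => by
    obtain ⟨k, l, o, ho⟩ := hpair x
    obtain ⟨z, hz⟩ := hx
    let q : pairScheme P k l ⟶ X := pairMap P k l ≫ pullback.fst π π ≫ π
    obtain ⟨p, hp, -⟩ := Scheme.Pullback.exists_preimage_pullback (f := q) (g := i) o z
      ((Scheme.Hom.comp_apply _ _ _).trans ((congrArg _ ho).trans hz.symm))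
    let c := geomPt _ p ≫ pullback.fst q i
    let ζ := geomPt _ p ≫ pullback.snd q i
    have hq : q = pullback.fst _ _ ≫ (P k).opn.ι ≫ π := by
      simp [q, pairMap, pullback.lift_fst_assoc]
    have hζ : c ≫ pullback.fst _ _ ≫ (P k).opn.ι ≫ π = ζ ≫ i := by
      rw [← hq]; simp only [c, ζ, Category.assoc, pullback.condition]
    refine Set.mem_iUnion₂.2 ⟨k, l, o, ?_, ho⟩
    rw [show o = c default by
      simp only [c, Scheme.Hom.comp_apply, geomPt_default, hp]]
    rw [pairSet, mem_same_iff, val_congr F hζ]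
    exact (hi k _ ζ _ _).trans (hi l _ ζ _ _).symm
  intro k l Ω _ _ ξ a b ha hb
  have hab : a ≫ (P k).opn.ι ≫ π = b ≫ (P l).opn.ι ≫ π := by
    rw [← Category.assoc, ← (P k).comm', ha, ← Category.assoc, ← (P l).comm', hb]
  let c : Spec (CommRingCat.of Ω) ⟶ pairScheme P k l := pullback.lift a b hab
  suffices h : c default ∈ pairSet P k l by
    rw [pairSet, mem_same_iff] at h
    have hq : c ≫ pullback.fst ((P k).opn.ι ≫ π) ((P l).opn.ι ≫ π) ≫ (P k).opn.ι ≫ π = ξ := by
      rw [← Category.assoc, pullback.lift_fst, ← Category.assoc, ← (P k).comm', ha]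
    rw [val_congr F hq] at h
    simpa only [c, pullback.lift_fst_assoc, pullback.lift_snd_assoc] using h
  obtain ⟨k', hk'⟩ := Set.mem_iUnion.1 (hall.ge (Set.mem_univ (pairMap P k l (c default))))
  obtain ⟨l', o', ho', hoo⟩ := Set.mem_iUnion.1 hk'
  obtain ⟨p, hp₁, hp₂⟩ := Scheme.Pullback.exists_preimage_pullback (f := pairMap P k l) (g := pairMap P k' l')
    (c default) o' hoo.symm
  let g := geomPt _ p
  let f := g ≫ pullback.fst (pairMap P k l) (pairMap P k' l')
  let f' := g ≫ pullback.snd (pairMap P k l) (pairMap P k' l')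
  have hf : f ≫ pairMap P k l = f' ≫ pairMap P k' l' := by
    simp only [f, f', Category.assoc, pullback.condition]
  have e1 : (f ≫ pullback.fst _ _) ≫ (P k).opn.ι = (f' ≫ pullback.fst _ _) ≫ (P k').opn.ι := by
    have h1 := congrArg (· ≫ pullback.fst π π) hf
    simpa [pairMap, pullback.lift_fst, Category.assoc] using h1
  have e2 : (f ≫ pullback.snd _ _) ≫ (P l).opn.ι = (f' ≫ pullback.snd _ _) ≫ (P l').opn.ι := by
    have h1 := congrArg (· ≫ pullback.snd π π) hf
    simpa [pairMap, pullback.lift_snd, Category.assoc] using h1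
  rw [show c default = f default by
    simp only [f, g, Scheme.Hom.comp_apply, geomPt_default, hp₁]]
  rw [show o' = f' default by
    simp only [f', g, Scheme.Hom.comp_apply, geomPt_default, hp₂], pairSet, mem_same_iff] at ho'
  rw [pairSet, mem_same_iff]
  have hξ : f ≫ pullback.fst _ _ ≫ (P k).opn.ι ≫ π = f' ≫ pullback.fst _ _ ≫ (P k').opn.ι ≫ π := by
    have := congrArg (· ≫ π) e1
    simpa only [Category.assoc] using this
  have hbk : ((f' ≫ pullback.fst _ _) ≫ (P k').map) ≫ (P k').obj.hom =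
      f ≫ pullback.fst _ _ ≫ (P k).opn.ι ≫ π := by
    rw [hξ, (P k').comm']; simp only [Category.assoc]
  have hbl : ((f' ≫ pullback.snd _ _) ≫ (P l').map) ≫ (P l').obj.hom =
      f ≫ pullback.fst _ _ ≫ (P k).opn.ι ≫ π := by
    rw [(P l').comm', ← e2, Category.assoc, Category.assoc, ← pullback.condition]
  have hak : ((f ≫ pullback.fst _ _) ≫ (P k).map) ≫ (P k).obj.hom =
      f ≫ pullback.fst _ _ ≫ (P k).opn.ι ≫ π := by
    rw [(P k).comm']; simp only [Category.assoc]
  have hal : ((f ≫ pullback.snd _ _) ≫ (P l).map) ≫ (P l).obj.hom =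
      f ≫ pullback.fst _ _ ≫ (P k).opn.ι ≫ π := by
    rw [(P l).comm', Category.assoc, Category.assoc, ← pullback.condition]
  have j1 := hA k k' _ _ _ _ e1 hak hbk
  have j2 := hA l l' _ _ _ _ e2 hal hbl
  rw [val_congr F hξ.symm] at ho'
  simp only [← Category.assoc] at ho' j1 j2 ⊢
  exact j1.trans (ho'.trans j2.symm)

end Groth.Agent.Gabber24
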