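import Groth.Agent.Lib.SpectralSec.Stalk
import Groth.Agent.Lib.SpectralSec.Glue
import Mathlib.Topology.Sheaves.LocalPredicate

/-!
# Sheaves of sets on a space and a closed subset with the same global sections
-/

open CategoryTheory Limits TopologicalSpace Opposite

universe u

namespace Groth.Agent.Gabber24

/-- Global sections of every sheaf of sets are those of its restriction to `Z`. -/
def SecEq (X : TopCat.{u}) (Z : Set X) : Prop :=
  ∀ F : TopCat.Sheaf (Type u) X, Function.Bijective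
      (((TopCat.Sheaf.pullbackPushforwardAdjunction (Type u)
        (TopCat.ofHom ⟨(Subtype.val : Z → X), continuous_subtype_val⟩)).unit.app F).hom.app (op ⊤))

variable {X : TopCat.{u}} {Z : Set X}

/-- A nonempty closed subset meets `Z`. -/
theorem SecEq.meets (h : SecEq X Z) {C : Set X} (hC : IsClosed C) (hne : C.Nonempty) :
    (C ∩ Z).Nonempty := by
  by_contra hd
  rw [Set.not_nonempty_iff_eq_empty] at hd
  obtain ⟨c, hc⟩ := hne
  let i : TopCat.of Z ⟶ X := TopCat.ofHom ⟨(Subtype.val : Z → X), continuous_subtype_val⟩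
  let T : X → Type u := fun x => ULift.{u} (PLift (x ∈ C) → Bool)
  let F : TopCat.Sheaf (Type u) X := TopCat.sheafToTypes X T
  let P := (TopCat.Sheaf.pullback (Type u) i).obj F
  let s : Bool → F.presheaf.obj (op ⊤) := fun b _ => ⟨fun _ => b⟩
  have hsub : ∀ (z : Z) (a b : F.presheaf.stalk z.1), a = b := by
    intro z a b
    obtain ⟨U, hU, s₁, rfl⟩ := F.presheaf.exists_germ_eq a
    obtain ⟨V, hV, s₂, rfl⟩ := F.presheaf.exists_germ_eq b
    let W : Opens X := U ⊓ V ⊓ ⟨Cᶜ, hC.isOpen_compl⟩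
    have hzC : z.1 ∉ C := fun hz => (Set.eq_empty_iff_forall_notMem.1 hd) z.1 ⟨hz, z.2⟩
    refine F.presheaf.germ_ext W ⟨⟨hU, hV⟩, hzC⟩ (homOfLE (inf_le_left.trans inf_le_left))
      (homOfLE (inf_le_left.trans inf_le_right)) ?_
    funext y
    exact ULift.ext _ _ (funext fun hy => absurd hy.down y.2.2)
  have e : s true = s false := by
    refine (h F).1 (TopCat.Presheaf.section_ext P _ _ _ fun z hz => ?_)
    exact (SpectralSec.stalkUnit_germ i F z ⊤ trivial (s true)).symm.trans
      ((congrArg (SpectralSec.stalkUnit i F z) (hsub z _ _)).trans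
        (SpectralSec.stalkUnit_germ i F z ⊤ trivial (s false)))
  have e' := congrFun (congrArg ULift.down (congrFun e ⟨c, trivial⟩)) ⟨hc⟩
  exact Bool.noConfusion e'

/-- An open neighbourhood of `Z` is everything. -/
theorem SecEq.eq_univ (h : SecEq X Z) {O : Set X} (hO : IsOpen O) (hZO : Z ⊆ O) : O = Set.univ := by
  by_contra hne
  obtain ⟨x, hx, hxZ⟩ := h.meets hO.isClosed_compl
    (Set.nonempty_compl.2 hne)
  exact hx (hZO hxZ)

/-- Compatible sections around `Z` come from a global section. -/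
theorem SecEq.exists_section (h : SecEq X Z) (F : TopCat.Sheaf (Type u) X) {ι : Type u}
    (U : ι → Opens X) (hcov : ∀ z ∈ Z, ∃ i, z ∈ U i) (s : ∀ i, F.presheaf.obj (op (U i)))
    (hs : ∀ z (_ : z ∈ Z) (i j : ι) (hi : z ∈ U i) (hj : z ∈ U j),
      F.presheaf.germ (U i) z hi (s i) = F.presheaf.germ (U j) z hj (s j)) :
    ∃ t : F.presheaf.obj (op ⊤), ∀ z (_ : z ∈ Z) (i : ι) (hi : z ∈ U i),
      F.presheaf.germ ⊤ z trivial t = F.presheaf.germ (U i) z hi (s i) := by
  let j : TopCat.of Z ⟶ X := TopCat.ofHom ⟨(Subtype.val : Z → X), continuous_subtype_val⟩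
  let P := (TopCat.Sheaf.pullback (Type u) j).obj F
  obtain ⟨σ, hσ, -⟩ := P.existsUnique_gluing' (fun i => (Opens.map j).obj (U i))
    ((Opens.map j).obj ⊤) (fun _ => homOfLE fun _ _ => trivial)
    (fun z _ => Opens.mem_iSup.2 (hcov z.1 z.2)) (fun i => (SpectralSec.unitHom j F).app (op (U i)) (s i))
    (fun i k => TopCat.Presheaf.section_ext P _ _ _ fun z hz => by
      rw [TopCat.Presheaf.germ_res_apply, TopCat.Presheaf.germ_res_apply]
      exact (SpectralSec.stalkUnit_germ j F z (U i) hz.1 (s i)).symm.trans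
        ((congrArg (SpectralSec.stalkUnit j F z) (hs z.1 z.2 i k hz.1 hz.2)).trans
          (SpectralSec.stalkUnit_germ j F z (U k) hz.2 (s k))))
  obtain ⟨t, ht⟩ := (h F).2 σ
  refine ⟨t, fun z hz i hi => ?_⟩
  apply (SpectralSec.stalkUnit_bijective j F ⟨z, hz⟩).1
  refine (SpectralSec.stalkUnit_germ j F ⟨z, hz⟩ ⊤ trivial t).trans (Eq.trans ?_
    (SpectralSec.stalkUnit_germ j F ⟨z, hz⟩ (U i) hi (s i)).symm)
  rw [← hσ i, TopCat.Presheaf.germ_res_apply]
  exact congrArg _ ht

end Groth.Agent.Gabber24
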